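import Groth.Agent.L23.CoprodFinite
import Mathlib.AlgebraicGeometry.Morphisms.Etale
import Mathlib.AlgebraicGeometry.Limits
import Mathlib.CategoryTheory.Extensive

/-! # Trivial covers are finite étale -/

set_option autoImplicit false
set_option linter.style.haveILetI false
set_option backward.isDefEq.respectTransparency.types false

universe u v

open CategoryTheory CategoryTheory.Limits AlgebraicGeometry

noncomputable section

namespace Groth.L27.FEtGal

theorem etale_foldId {Y : Scheme.{u}} {ι : Type v} [Small.{u} ι] :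
    AlgebraicGeometry.Etale (Sigma.desc fun _ : ι => 𝟙 Y) :=
  IsZariskiLocalAtSource.sigmaDesc (fun _ => inferInstance)

theorem isFinite_foldId {Y : Scheme.{u}} (n : ℕ) :
    IsFinite (Sigma.desc fun _ : Fin n => 𝟙 Y) := by
  let Z : Scheme.{u} := Spec (CommRingCat.of (ULift.{u} ℤ))
  let gY : Y ⟶ Z := specULiftZIsTerminal.from Y
  let f : ULift.{u} (Fin n) → (Z ⟶ Z) := fun _ => 𝟙 Z
  let g : Fin 1 → (Y ⟶ Z) := fun _ => gY
  haveI : IsFinite (Sigma.desc f) := Groth.L23.Coprod.isFinite_sigmaDesc f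
  have sq := FinitaryPreExtensive.isPullback_sigmaDesc f g
  have hfin := MorphismProperty.of_isPullback (P := @IsFinite) sq
    (inferInstance : IsFinite (Sigma.desc f))
  haveI : IsFinite (Sigma.desc fun p : ULift.{u} (Fin n) × Fin 1 =>
      pullback.snd (f p.1) (g p.2) ≫ Sigma.ι (fun _ : Fin 1 => Y) p.2) := hfin
  let θ : (∐ fun p : ULift.{u} (Fin n) × Fin 1 => pullback (f p.1) (g p.2)) ⟶ ∐ fun _ : Fin n => Y :=
    Sigma.desc fun p => pullback.snd (f p.1) (g p.2) ≫ Sigma.ι (fun _ : Fin n => Y) p.1.down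
  let θ' : (∐ fun _ : Fin n => Y) ⟶ ∐ fun p : ULift.{u} (Fin n) × Fin 1 => pullback (f p.1) (g p.2) :=
    Sigma.desc fun i => pullback.lift gY (𝟙 Y) (by simp [f, g]) ≫
      Sigma.ι (fun p : ULift.{u} (Fin n) × Fin 1 => pullback (f p.1) (g p.2)) (ULift.up i, 0)
  haveI : IsIso θ' := ⟨θ, by
    refine Sigma.hom_ext _ _ fun i => ?_
    simp only [θ, θ', Sigma.ι_desc_assoc, Category.assoc, Sigma.ι_desc, Category.comp_id]
    exact (pullback.lift_snd_assoc _ _ _ _).trans (Category.id_comp _), by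
    refine Sigma.hom_ext _ _ fun p => ?_
    obtain ⟨⟨i⟩, j⟩ := p
    obtain rfl : j = 0 := Subsingleton.elim _ _
    simp only [θ, θ', Sigma.ι_desc_assoc, Category.assoc, Sigma.ι_desc, Category.comp_id]
    rw [← Category.assoc]
    refine (congrArg (· ≫ _) (pullback.hom_ext ?_ ?_)).trans (Category.id_comp _)
    · simp only [Category.assoc, pullback.lift_fst, Category.id_comp]
      exact specULiftZIsTerminal.hom_ext _ _
    · exact ((Category.assoc _ _ _).trans (congrArg (_ ≫ ·) (pullback.lift_snd _ _ _))).trans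
        ((Category.comp_id _).trans (Category.id_comp _).symm)⟩
  haveI : IsIso (Sigma.desc fun _ : Fin 1 => 𝟙 Y) := ⟨Sigma.ι (fun _ : Fin 1 => Y) 0, by
    refine Sigma.hom_ext _ _ fun j => ?_
    obtain rfl : j = 0 := Subsingleton.elim _ _
    simp, by simp⟩
  have e : Sigma.desc (fun _ : Fin n => 𝟙 Y) = θ' ≫
      (Sigma.desc fun p : ULift.{u} (Fin n) × Fin 1 =>
        pullback.snd (f p.1) (g p.2) ≫ Sigma.ι (fun _ : Fin 1 => Y) p.2) ≫
      Sigma.desc fun _ : Fin 1 => 𝟙 Y := by
    refine Sigma.hom_ext _ _ fun i => ?_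
    simp [θ']
    exact (pullback.lift_snd _ _ _).symm
  rw [e]
  infer_instance

end Groth.L27.FEtGal
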