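import Groth.Agent.L27.FEtGal.Unique
import Groth.Prelude.Def_Pi1
import Mathlib.AlgebraicGeometry.Limits
import Mathlib.CategoryTheory.Galois.Decomposition

/-! # Split covers and splitting covers -/

set_option autoImplicit false
set_option linter.style.haveILetI false
set_option linter.unusedSectionVars false
set_option backward.isDefEq.respectTransparency.types false

universe u w

open CategoryTheory CategoryTheory.Limits AlgebraicGeometry TopologicalSpace

noncomputable section

namespace Groth.L27.FEtGal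

/-- A cover of a connected scheme with enough sections is split. -/
theorem split_of_sections {A : Scheme.{u}} [ConnectedSpace A] (Z : FEt.Cat A) {Ω : Type u} [Field Ω]
    [IsAlgClosed Ω] (ξ : Spec (CommRingCat.of Ω) ⟶ A) {ι : Type w} [Finite ι] [Small.{u} ι]
    (s : ι → (A ⟶ Z.left)) (hs : ∀ i, s i ≫ Z.hom = 𝟙 A)
    (hinj : ∀ i j, ξ ≫ s i = ξ ≫ s j → i = j)
    (hsurj : ∀ t : FEt.fiberObj ξ Z, ∃ i, ξ ≫ s i = t.1) :
    ∃ e : Z.left ≅ ∐ fun _ : ι => A, ∀ i, Sigma.ι (fun _ : ι => A) i ≫ e.inv ≫ Z.hom = 𝟙 A := by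
  let p : Z.left ⟶ A := hm Z
  haveI : IsFinite p := Z.prop.1
  haveI : AlgebraicGeometry.Etale p := Z.prop.2
  have hp : ∀ i, s i ≫ p = 𝟙 A := hs
  haveI : ∀ i, IsOpenImmersion (s i) := fun i => by
    haveI : AlgebraicGeometry.Etale (s i ≫ p) := by rw [hp]; infer_instance
    haveI : AlgebraicGeometry.Etale (s i) := AlgebraicGeometry.Etale.of_comp (s i) p
    haveI : Mono (s i) := (SplitMono.mk p (hp i)).mono
    exact IsOpenImmersion.of_flat_of_mono (s i)
  haveI : ∀ i, IsClosedImmersion (s i) := fun i => by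
    haveI : IsClosedImmersion (s i ≫ p) := by rw [hp]; infer_instance
    exact IsClosedImmersion.of_comp (s i) p
  have hclop : ∀ i, IsClopen (Set.range (s i)) := fun i =>
    ⟨(s i).isClosedEmbedding.isClosed_range, (s i).isOpenEmbedding.isOpen_range⟩
  have hid : ∀ i a, p (s i a) = a := fun i a => congrArg (fun m : A ⟶ A => m a) (hp i)
  have hdisj : ∀ i j, i ≠ j → Disjoint (Set.range (s i)) (Set.range (s j)) := by
    intro i j hij
    rw [Set.disjoint_left]
    rintro z ⟨a, rfl⟩ hz
    have hC : IsClopen (s i ⁻¹' Set.range (s j)) := (hclop j).preimage (s i).continuous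
    have hsub : Set.range (s i) ⊆ Set.range (s j) := by
      rintro _ ⟨b, rfl⟩
      exact (hC.eq_univ ⟨a, hz⟩).ge (Set.mem_univ b)
    have hl := IsOpenImmersion.lift_fac (s j) (s i) hsub
    have hl1 : IsOpenImmersion.lift (s j) (s i) hsub = 𝟙 A := by
      exact (Category.comp_id _).symm.trans ((congrArg (_ ≫ ·) (hp j).symm).trans
        ((Category.assoc _ _ _).symm.trans ((congrArg (· ≫ p) hl).trans (hp i))))
    rw [hl1, Category.id_comp] at hl
    exact hij (hinj i j (by rw [hl]))
  haveI : IsOpenImmersion (Sigma.desc s) := isOpenImmersion_sigmaDesc _ s fun i j hij => hdisj i j hij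
  haveI : Surjective (Sigma.desc s) := by
    refine ⟨fun z => ?_⟩
    have hO : IsClopen (⋃ i, Set.range (s i))ᶜ :=
      (isClopen_iUnion_of_finite hclop).compl
    have him : IsClopen (p '' (⋃ i, Set.range (s i))ᶜ) :=
      ⟨p.isClosedMap _ hO.1, p.isOpenMap _ hO.2⟩
    by_cases hz : z ∈ ⋃ i, Set.range (s i)
    · obtain ⟨i, a, rfl⟩ := Set.mem_iUnion.mp hz
      exact ⟨Sigma.ι (fun _ : ι => A) i a, by rw [← Scheme.Hom.comp_apply, Sigma.ι_desc]⟩
    · exfalso
      have hu := him.eq_univ ⟨p z, z, hz, rfl⟩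
      obtain ⟨t, ht, htξ⟩ := hu.ge (Set.mem_univ (ξ default))
      obtain ⟨q, hq, hqt⟩ := exists_fiber_pt p ξ t htξ
      obtain ⟨i, hi⟩ := hsurj ⟨q, hq⟩
      exact ht (Set.mem_iUnion.mpr ⟨i, ξ default, (congrArg (fun m => m default) hi).trans hqt⟩)
  haveI : Epi (Sigma.desc s).base := (TopCat.epi_iff_surjective _).mpr (Sigma.desc s).surjective
  haveI : IsIso (Sigma.desc s) := IsOpenImmersion.isIso (Sigma.desc s)
  refine ⟨(asIso (Sigma.desc s)).symm, fun i => ?_⟩
  rw [Iso.symm_inv, asIso_hom, Sigma.ι_desc_assoc]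
  exact hs i

section Galois

variable {X : Scheme.{u}} [ConnectedSpace X] {Ω : Type u} [Field Ω] [IsAlgClosed Ω]
  (ξ : Spec (CommRingCat.of Ω) ⟶ X)

include ξ in
/-- Connected objects have connected underlying space. -/
theorem connectedSpace_of_isConnected (A : FEt.Cat X) [PreGaloisCategory.IsConnected A]
    (a : FEt.fiberObj ξ A) : ConnectedSpace A.left := by
  haveI : Nonempty A.left := ⟨a.1 default⟩
  haveI : PreconnectedSpace A.left := preconnectedSpace_iff_clopen.mpr fun C hC => by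
    by_cases hne : C = ∅
    · exact Or.inl hne
    right
    let U : A.left.Opens := ⟨C, hC.2⟩
    haveI : IsFinite (hm A) := A.prop.1
    haveI : AlgebraicGeometry.Etale (hm A) := A.prop.2
    haveI : IsClosedImmersion U.ι := IsClosedImmersion.of_isPreimmersion U.ι (by
      rw [Scheme.Opens.range_ι]; exact hC.1)
    have hW : FEt.prop (U.ι ≫ hm A) :=
      ⟨MorphismProperty.comp_mem _ _ _ (inferInstance : IsFinite U.ι) inferInstance,
        MorphismProperty.comp_mem _ _ _ (inferInstance : AlgebraicGeometry.Etale U.ι) inferInstance⟩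
    let W : FEt.Cat X := MorphismProperty.Over.mk ⊤ (U.ι ≫ hm A) hW
    let i : W ⟶ A := MorphismProperty.Over.homMk U.ι rfl
    haveI : Mono i := ⟨fun {Z} b c h =>
      MorphismProperty.Over.Hom.ext ((cancel_mono U.ι).mp (congrArg (fun m => m.left) h))⟩
    haveI : IsFinite (U.ι ≫ hm A) := hW.1
    haveI : AlgebraicGeometry.Etale (U.ι ≫ hm A) := hW.2
    obtain ⟨z, hz⟩ := Set.nonempty_iff_ne_empty.mpr hne
    have hu : IsClopen (Set.range (U.ι ≫ hm A)) :=
      ⟨(U.ι ≫ hm A).isClosedMap.isClosed_range, (U.ι ≫ hm A).isOpenMap.isOpen_range⟩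
    obtain ⟨t, ht⟩ := (hu.eq_univ ⟨_, ⟨z, hz⟩, rfl⟩).ge (Set.mem_univ (ξ default))
    obtain ⟨w, hw, -⟩ := exists_fiber_pt (U.ι ≫ hm A) ξ t ht
    haveI := preGaloisCategory X
    haveI : PreGaloisCategory.FiberFunctor (fibF ξ) := fiberFunctor ξ
    haveI : IsIso i := PreGaloisCategory.IsConnected.noTrivialComponent W i fun hi =>
      ((PreGaloisCategory.initial_iff_fiber_empty (fibF ξ) W).mp ⟨hi⟩).false
        (show (fibF ξ).obj W from (⟨w, hw⟩ : FEt.fiberObj ξ W))
    refine Set.eq_univ_of_forall fun y => ?_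
    have hy : U.ι ((inv i).left y) = y := congrArg (fun m : A ⟶ A => m.left y) (IsIso.inv_hom_id i)
    rw [← hy]
    exact ((inv i).left y).2
  exact ⟨inferInstance⟩

include ξ in
/-- Every cover of a connected scheme is split by a connected surjective cover. -/
theorem exists_split (Y : FEt.Cat X) :
    ∃ A : FEt.Cat X, Surjective A.hom ∧ ConnectedSpace A.left ∧
      ∃ (n : ℕ) (e : ((FEt.restrict A.hom).obj Y).left ≅ ∐ fun _ : Fin n => A.left),
        ∀ i, Sigma.ι (fun _ : Fin n => A.left) i ≫ e.inv ≫ ((FEt.restrict A.hom).obj Y).hom = 𝟙 A.left := by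
  haveI := galoisCategory ξ
  haveI : PreGaloisCategory.FiberFunctor (fibF ξ) := fiberFunctor ξ
  obtain ⟨A, a, hA, hb⟩ := PreGaloisCategory.exists_galois_representative (fibF ξ) Y
  let a0 : FEt.fiberObj ξ A := a
  haveI := connectedSpace_of_isConnected ξ A a0
  haveI : IsFinite (hm A) := A.prop.1
  haveI : AlgebraicGeometry.Etale (hm A) := A.prop.2
  haveI : Surjective (hm A) := by
    refine ⟨fun x => ?_⟩
    exact (IsClopen.eq_univ ⟨(hm A).isClosedMap.isClosed_range, (hm A).isOpenMap.isOpen_range⟩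
      (Set.range_nonempty _)).ge (Set.mem_univ x)
  haveI : Finite (A ⟶ Y) := Finite.of_injective _ hb.1
  haveI : ConnectedSpace ↥((𝟭 Scheme.{u}).obj A.left) := connectedSpace_of_isConnected ξ A a0
  let n := Nat.card (A ⟶ Y)
  let σ : Fin n ≃ (A ⟶ Y) := (Finite.equivFin _).symm
  refine ⟨A, ‹Surjective (hm A)›, inferInstance, n,
    split_of_sections ((FEt.restrict A.hom).obj Y) a0.1
      (fun i => pullback.lift (σ i).left (𝟙 A.left)
        ((MorphismProperty.Over.w (σ i)).trans (Category.id_comp _).symm))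
      (fun i => pullback.lift_snd _ _ _) (fun i j h => ?_) (fun t => ?_)⟩
  · refine σ.injective (hb.1 (Subtype.ext ?_))
    exact (((Category.assoc _ _ _).trans (congrArg (a0.1 ≫ ·) (pullback.lift_fst _ _ _))).symm.trans
      (congrArg (· ≫ pullback.fst Y.hom A.hom) h)).trans
        ((Category.assoc _ _ _).trans (congrArg (a0.1 ≫ ·) (pullback.lift_fst _ _ _)))
  · obtain ⟨f, hf⟩ := hb.2 (⟨t.1 ≫ pullback.fst Y.hom A.hom, by
      refine (Category.assoc _ _ _).trans ((congrArg (t.1 ≫ ·) pullback.condition).trans ?_)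
      exact (Category.assoc _ _ _).symm.trans ((congrArg (· ≫ A.hom) t.2).trans a0.2)⟩ : FEt.fiberObj ξ Y)
    obtain ⟨i, rfl⟩ := σ.surjective f
    exact ⟨i, pullback.hom_ext
      (((Category.assoc _ _ _).trans (congrArg (a0.1 ≫ ·) (pullback.lift_fst _ _ _))).trans
        (congrArg Subtype.val hf))
      ((((Category.assoc _ _ _).trans (congrArg (a0.1 ≫ ·) (pullback.lift_snd _ _ _))).trans
        (Category.comp_id _)).trans t.2.symm)⟩

end Galois

end Groth.L27.FEtGal
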