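import Groth.Agent.L27.ProfinitePullback
import Groth.Prelude.Def_FEt
import Mathlib.AlgebraicGeometry.Morphisms.QuasiSeparated
import Mathlib.AlgebraicGeometry.Morphisms.ClosedImmersion
import Mathlib.AlgebraicGeometry.Morphisms.UniversallyOpen

/-! # Equivalences of finite étale sites and connected components -/

set_option autoImplicit false
set_option linter.style.haveILetI false
set_option backward.isDefEq.respectTransparency.types false

universe u

open CategoryTheory CategoryTheory.Limits AlgebraicGeometry TopologicalSpace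

noncomputable section

namespace Groth.L27.FEtComponents

variable {X Y : Scheme.{u}}

/-- A clopen subscheme as a cover. -/
def clObj (C : Set Y) (hC : IsClopen C) : FEt.Cat Y :=
  MorphismProperty.Over.mk ⊤ (Scheme.Opens.ι ⟨C, hC.2⟩) (by
    let U : Y.Opens := ⟨C, hC.2⟩
    haveI : IsClosedImmersion U.ι := IsClosedImmersion.of_isPreimmersion U.ι (by
      rw [Scheme.Opens.range_ι]; exact hC.1)
    exact ⟨inferInstance, inferInstance⟩)

theorem range_clObj (C : Set Y) (hC : IsClopen C) : Set.range (clObj C hC).hom = C :=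
  Scheme.Opens.range_ι ⟨C, hC.2⟩

theorem range_restrict (f : X ⟶ Y) (V : FEt.Cat Y) :
    Set.range ((FEt.restrict f).obj V).hom = f ⁻¹' Set.range V.hom := by
  ext x
  constructor
  · rintro ⟨z, rfl⟩
    exact ⟨pullback.fst V.hom f z, congrArg (fun m : pullback V.hom f ⟶ Y => m z) pullback.condition⟩
  · rintro ⟨v, hv⟩
    obtain ⟨z, -, hz⟩ := Scheme.Pullback.exists_preimage_pullback v x hv
    exact ⟨z, hz⟩

theorem isClopen_range (V : FEt.Cat Y) : IsClopen (Set.range V.hom) := by
  haveI : IsFinite V.hom := V.prop.1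
  haveI : AlgebraicGeometry.Etale V.hom := V.prop.2
  exact ⟨V.hom.isClosedMap.isClosed_range, V.hom.isOpenMap.isOpen_range⟩

theorem range_eq_of_iso {V W : FEt.Cat Y} (e : V ≅ W) : Set.range V.hom = Set.range W.hom := by
  have h : ∀ {A B : FEt.Cat Y} (φ : A ⟶ B), Set.range A.hom ⊆ Set.range B.hom := fun {A B} φ => by
    rintro _ ⟨a, rfl⟩
    exact ⟨φ.left a, congrArg (fun m => m a) (MorphismProperty.Over.w φ)⟩
  exact (h e.hom).antisymm (h e.inv)

variable (f : X ⟶ Y) (h : (FEt.restrict f).IsEquivalence)

include h in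
theorem exists_clopen (C' : Set X) (hC' : IsClopen C') : ∃ C : Set Y, IsClopen C ∧ f ⁻¹' C = C' := by
  haveI := h
  obtain ⟨V, ⟨e⟩⟩ := Functor.EssSurj.mem_essImage (F := FEt.restrict f) (clObj C' hC')
  exact ⟨_, isClopen_range V, by rw [← range_restrict, range_eq_of_iso e, range_clObj]⟩

include h in
theorem eq_empty_of_preimage_eq_empty {D : Set Y} (hD : IsClopen D) (hf : f ⁻¹' D = ∅) : D = ∅ := by
  haveI := h
  let V := clObj D hD
  let W := clObj (∅ : Set Y) isClopen_empty
  haveI : IsEmpty ((FEt.restrict f).obj V).left := ⟨fun z => by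
    have : ((FEt.restrict f).obj V).hom z ∈ Set.range ((FEt.restrict f).obj V).hom := ⟨z, rfl⟩
    rw [range_restrict, range_clObj, hf] at this
    exact this⟩
  let φ : (FEt.restrict f).obj V ⟶ (FEt.restrict f).obj W :=
    MorphismProperty.Over.homMk (isInitialOfIsEmpty.to _) (isInitialOfIsEmpty.hom_ext _ _)
  let ψ : V ⟶ W := (FEt.restrict f).preimage φ
  rw [← range_clObj D hD]
  refine Set.eq_empty_of_forall_notMem ?_
  rintro _ ⟨v, rfl⟩
  have : (W.hom (ψ.left v)) ∈ Set.range W.hom := ⟨_, rfl⟩
  rw [range_clObj] at this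
  exact this

include h in
theorem isHomeomorph_connectedComponentsMap [CompactSpace X] [QuasiSeparatedSpace X] [CompactSpace Y]
    [QuasiSeparatedSpace Y] : IsHomeomorph f.continuous.connectedComponentsMap := by
  haveI : SpectralSpace X := {}
  haveI : SpectralSpace Y := {}
  haveI := Groth.L27.ProfinitePullback.t2_components (X := X)
  haveI := Groth.L27.ProfinitePullback.t2_components (X := Y)
  have hc := f.continuous.connectedComponentsMap_continuous
  rw [isHomeomorph_iff_continuous_bijective]
  refine ⟨hc, fun a b hab => ?_, fun y => ?_⟩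
  · obtain ⟨x, rfl⟩ := ConnectedComponents.surjective_coe a
    obtain ⟨x', rfl⟩ := ConnectedComponents.surjective_coe b
    by_contra hne
    obtain ⟨U, hU, hxU, hx'U⟩ := exists_isClopen_of_totally_separated hne
    obtain ⟨C, hC, hCeq⟩ := exists_clopen f h _ (hU.preimage ConnectedComponents.continuous_coe)
    have hy : f x' ∈ connectedComponent (f x) := ConnectedComponents.coe_eq_coe'.mp hab.symm
    have hx : f x ∈ C := by
      have : x ∈ f ⁻¹' C := by rw [hCeq]; exact hxU
      exact this
    have : x' ∈ f ⁻¹' C := hC.connectedComponent_subset hx hy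
    rw [hCeq] at this
    exact hx'U this
  · by_contra hy
    have hK : IsClosed (Set.range f.continuous.connectedComponentsMap) := (isCompact_range hc).isClosed
    obtain ⟨U, hU, hyU, hUK⟩ := compact_exists_isClopen_in_isOpen hK.isOpen_compl hy
    obtain ⟨y, rfl⟩ := ConnectedComponents.surjective_coe y
    have hD : IsClopen (ConnectedComponents.mk ⁻¹' U) := hU.preimage ConnectedComponents.continuous_coe
    have he : f ⁻¹' (ConnectedComponents.mk ⁻¹' U) = ∅ := by
      refine Set.eq_empty_of_forall_notMem fun x hx => hUK hx ⟨ConnectedComponents.mk x, rfl⟩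
    exact Set.eq_empty_iff_forall_notMem.mp (eq_empty_of_preimage_eq_empty f h hD he) y hyU

end Groth.L27.FEtComponents
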