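import Groth.Agent.L27.FEtGal.EqAlg
import Groth.Prelude.Def_FEt
import Mathlib.AlgebraicGeometry.Morphisms.FlatRank
import Mathlib.AlgebraicGeometry.Sites.SmallAffineZariski
import Mathlib.RingTheory.Spectrum.Prime.FreeLocus
import Mathlib.CategoryTheory.FinCategory.Basic

/-!
# Finite colimits of finite étale covers

The colimit of a finite diagram of finite étale covers of `X` is glued from the spectra of the rings of
compatible families of functions over the affine opens of `X`.
-/

set_option autoImplicit false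
set_option linter.style.haveILetI false
set_option linter.unusedSectionVars false
set_option backward.isDefEq.respectTransparency.types false

universe u

open CategoryTheory CategoryTheory.Limits AlgebraicGeometry TopologicalSpace Opposite
open Groth.L18.SchFin (fixedAlg)

noncomputable section

namespace Groth.L27.FEtGal

variable {X : Scheme.{u}}

/-- The structure morphism, with source `Y.left`. -/
abbrev hm (Y : FEt.Cat X) : Y.left ⟶ X := Y.hom

/-- The preimage of an open in a cover. -/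
abbrev pre (Y : FEt.Cat X) (U : X.Opens) : Y.left.Opens := (hm Y) ⁻¹ᵁ U

theorem isAffineOpen_pre (Y : FEt.Cat X) {U : X.Opens} (hU : IsAffineOpen U) : IsAffineOpen (pre Y U) := by
  haveI : IsFinite (hm Y) := Y.prop.1
  exact hU.preimage (hm Y)

theorem pre_le {Y Z : FEt.Cat X} (φ : Y ⟶ Z) (U : X.Opens) : pre Y U ≤ φ.left ⁻¹ᵁ pre Z U := by
  refine le_of_eq ?_
  have h := congrArg (fun m => m ⁻¹ᵁ U) (MorphismProperty.Over.w φ)
  simp only [Scheme.Hom.comp_preimage] at h
  exact h.symm

/-- Pull back of functions along a morphism of covers. -/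
def pull {Y Z : FEt.Cat X} (φ : Y ⟶ Z) (U : X.Opens) : Γ(Z.left, pre Z U) ⟶ Γ(Y.left, pre Y U) :=
  φ.left.appLE _ _ (pre_le φ U)

/-- Restriction of functions. -/
def res (Y : FEt.Cat X) {U V : X.Opens} (h : V ≤ U) : Γ(Y.left, pre Y U) ⟶ Γ(Y.left, pre Y V) :=
  Y.left.presheaf.map (homOfLE ((hm Y).preimage_mono h)).op

theorem res_pull {Y Z : FEt.Cat X} (φ : Y ⟶ Z) {U V : X.Opens} (h : V ≤ U) :
    res Z h ≫ pull φ V = pull φ U ≫ res Y h := by
  rw [res, res, pull, pull, Scheme.Hom.map_appLE, Scheme.Hom.appLE_map]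

theorem str_res (Y : FEt.Cat X) {U V : X.Opens} (h : V ≤ U) :
    (hm Y).app U ≫ res Y h = X.presheaf.map (homOfLE h).op ≫ (hm Y).app V :=
  ((hm Y).naturality (homOfLE h).op).symm

theorem str_pull {Y Z : FEt.Cat X} (φ : Y ⟶ Z) (U : X.Opens) :
    (hm Z).app U ≫ pull φ U = (hm Y).app U := by
  have e : φ.left ≫ (hm Z) = (hm Y) := MorphismProperty.Over.w φ
  simp only [pull, Scheme.Hom.app_eq_appLE, Scheme.Hom.appLE_comp_appLE, e]

theorem pull_comp' {Y Z W : FEt.Cat X} (φ : Y ⟶ Z) (ψ : Z ⟶ W) (U : X.Opens) :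
    pull (φ ≫ ψ) U = pull ψ U ≫ pull φ U := by
  simp only [pull, Scheme.Hom.appLE_comp_appLE]
  rfl

theorem fromSpec_left {Y Z : FEt.Cat X} (φ : Y ⟶ Z) {U : X.Opens} (hU : IsAffineOpen U) :
    (isAffineOpen_pre Y hU).fromSpec ≫ φ.left =
      Spec.map (pull φ U) ≫ (isAffineOpen_pre Z hU).fromSpec :=
  ((isAffineOpen_pre Z hU).SpecMap_appLE_fromSpec φ.left (isAffineOpen_pre Y hU) (pre_le φ U)).symm

theorem fromSpec_hom (Y : FEt.Cat X) {U : X.Opens} (hU : IsAffineOpen U) :
    (isAffineOpen_pre Y hU).fromSpec ≫ (hm Y) = Spec.map ((hm Y).app U) ≫ hU.fromSpec := by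
  rw [Scheme.Hom.app_eq_appLE]
  exact (hU.SpecMap_appLE_fromSpec (hm Y) (isAffineOpen_pre Y hU) le_rfl).symm

theorem isLoc_res (Y : FEt.Cat X) {U : X.Opens} (hU : IsAffineOpen U) (r : Γ(X, U)) :
    letI := (res Y (X.basicOpen_le r)).hom.toAlgebra
    IsLocalization.Away (R := Γ(Y.left, pre Y U)) ((hm Y).app U r) Γ(Y.left, pre Y (X.basicOpen r)) :=
  (isAffineOpen_pre Y hU).isLocalization_of_eq_basicOpen ((hm Y).app U r) _
    (Scheme.Hom.preimage_basicOpen (hm Y) r)

theorem isPullback_fromSpec (Y : FEt.Cat X) {U : X.Opens} (hU : IsAffineOpen U) :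
    IsPullback (isAffineOpen_pre Y hU).fromSpec (Spec.map ((hm Y).app U)) (hm Y) hU.fromSpec := by
  haveI : IsOpenImmersion (isAffineOpen_pre Y hU).fromSpec := (isAffineOpen_pre Y hU).isOpenImmersion_fromSpec
  refine (IsOpenImmersion.isPullback (Spec.map ((hm Y).app U)) (isAffineOpen_pre Y hU).fromSpec
    hU.fromSpec (hm Y) (fromSpec_hom Y hU) ?_).flip
  rw [hU.opensRange_fromSpec, (isAffineOpen_pre Y hU).opensRange_fromSpec]

/-! ## Gluing -/

/-- An object of the affine Zariski site is affine. -/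
theorem hA (U : X.AffineZariskiSite) : IsAffineOpen U.toOpens := U.2


section Glue

variable (F : X.AffineZariskiSiteᵒᵖ ⥤ CommRingCat.{u})
  (α : (Scheme.AffineZariskiSite.toOpensFunctor X).op ⋙ X.presheaf ⟶ F) (H : α.Coequifibered)

/-- The gluing datum. -/
abbrev gd : (Scheme.AffineZariskiSite.directedCover X).RelativeGluingData :=
  Scheme.AffineZariskiSite.relativeGluingData H

instance isLocallyDirected_gd : ((gd F α H).functor ⋙ Scheme.forget).IsLocallyDirected :=
  Scheme.Cover.RelativeGluingData.instIsLocallyDirectedI₀CompFunctorForgetOfIsThin ..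

/-- The glued scheme. -/
def G : Scheme.{u} := (gd F α H).glued

/-- Its structure morphism. -/
def Gπ : G F α H ⟶ X := (gd F α H).toBase

/-- Its charts. -/
def Gι (U : X.AffineZariskiSite) : Spec (F.obj (op U)) ⟶ G F α H :=
  (gd F α H).cover.f U

instance isOpenImmersion_Gι (U : X.AffineZariskiSite) : IsOpenImmersion (Gι F α H U) :=
  (gd F α H).cover.map_prop _

theorem Gι_π (U : X.AffineZariskiSite) :
    Gι F α H U ≫ Gπ F α H = Spec.map (α.app (op U)) ≫ (hA U).fromSpec :=
  colimit.ι_desc _ _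

theorem Gπ_preimage (U : X.AffineZariskiSite) : Gπ F α H ⁻¹ᵁ U.toOpens = (Gι F α H U).opensRange := by
  simpa using! (gd F α H).toBase_preimage_eq_opensRange_ι U

theorem G_isPullback (U : X.AffineZariskiSite) :
    IsPullback (Gι F α H U) (Spec.map (α.app (op U))) (Gπ F α H) (hA U).fromSpec := by
  refine (IsOpenImmersion.isPullback (V := Spec Γ(X, U.toOpens)) (Spec.map (α.app (op U))) (Gι F α H U) (hA U).fromSpec (Gπ F α H)
    (Gι_π F α H U) ?_).flip
  rw [(hA U).opensRange_fromSpec, Gπ_preimage]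

theorem G_hom_ext {T : Scheme.{u}} {m m' : G F α H ⟶ T}
    (h : ∀ U, Gι F α H U ≫ m = Gι F α H U ≫ m') : m = m' :=
  colimit.hom_ext h

variable {T : FEt.Cat X} (θ : ∀ U : X.AffineZariskiSite, Γ(T.left, pre T U.toOpens) ⟶ F.obj (op U))
  (hθ : ∀ (U V : X.AffineZariskiSite) (i : V ⟶ U),
    θ U ≫ F.map i.op = res T (Scheme.AffineZariskiSite.toOpens_mono i.le) ≫ θ V)
  (hθ' : ∀ U : X.AffineZariskiSite, (hm T).app U.toOpens ≫ θ U = α.app (op U))

/-- The morphism out of a glued scheme given by ring maps. -/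
def Gdesc : G F α H ⟶ T.left :=
  colimit.desc _
    { pt := T.left
      ι.app := fun U : X.AffineZariskiSite => Spec.map (θ U) ≫ (isAffineOpen_pre T (hA U)).fromSpec
      ι.naturality := fun U V i => by
        refine Eq.trans ?_ (Category.comp_id _).symm
        show Spec.map (F.map i.op) ≫ Spec.map (θ V) ≫ _ = Spec.map (θ U) ≫ _
        rw [← Category.assoc, ← Spec.map_comp, hθ V U i, Spec.map_comp, Category.assoc, res,
          (isAffineOpen_pre T (hA V)).map_fromSpec (isAffineOpen_pre T (hA U))] }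

theorem Gι_desc (U : X.AffineZariskiSite) :
    Gι F α H U ≫ Gdesc F α H θ hθ = Spec.map (θ U) ≫ (isAffineOpen_pre T (hA U)).fromSpec :=
  colimit.ι_desc _ _

include hθ' in
theorem Gdesc_hom : Gdesc F α H θ hθ ≫ (hm T) = Gπ F α H := by
  refine G_hom_ext F α H fun U => ?_
  rw [reassoc_of% (Gι_desc F α H θ hθ U), fromSpec_hom T (hA U), ← Spec.map_comp_assoc, hθ', Gι_π]
  rfl

/-- Morphisms out of a glued scheme over the base are given on charts by ring maps. -/
theorem exists_chart {m : G F α H ⟶ T.left} (hmT : m ≫ (hm T) = Gπ F α H) (U : X.AffineZariskiSite) :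
    ∃ a : Γ(T.left, pre T U.toOpens) ⟶ F.obj (op U),
      Gι F α H U ≫ m = Spec.map a ≫ (isAffineOpen_pre T (hA U)).fromSpec := by
  have hr : Set.range (Gι F α H U ≫ m) ⊆ Set.range (isAffineOpen_pre T (hA U)).fromSpec := by
    rw [(isAffineOpen_pre T (hA U)).range_fromSpec]
    rintro _ ⟨z, rfl⟩
    show (hm T) ((Gι F α H U ≫ m) z) ∈ U.toOpens
    rw [← Scheme.Hom.comp_apply, Category.assoc, hmT]
    have hz : Gι F α H U z ∈ Gπ F α H ⁻¹ᵁ U.toOpens := by
      rw [Gπ_preimage]; exact ⟨z, rfl⟩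
    exact hz
  exact ⟨Spec.preimage (IsOpenImmersion.lift _ _ hr), by rw [Spec.map_preimage, IsOpenImmersion.lift_fac]⟩

end Glue

/-! ## The cover as a glued scheme -/

section Self

variable (Y : FEt.Cat X)

/-- Functions of a cover over affine opens. -/
abbrev PF : X.AffineZariskiSiteᵒᵖ ⥤ CommRingCat.{u} :=
  (Scheme.AffineZariskiSite.toOpensFunctor X).op ⋙ ((hm Y).base _* Y.left.presheaf)

/-- Its structure map. -/
def Pα : (Scheme.AffineZariskiSite.toOpensFunctor X).op ⋙ X.presheaf ⟶ PF Y :=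
  (Scheme.AffineZariskiSite.toOpensFunctor X).op.whiskerLeft (hm Y).c

theorem PH : (Pα Y).Coequifibered :=
  Scheme.AffineZariskiSite.coequifibered_iff_forall_isLocalizationAway.mpr fun U r => isLoc_res Y (hA U) r

/-- The comparison with the glued scheme. -/
def toY : G (PF Y) (Pα Y) (PH Y) ⟶ Y.left :=
  Gdesc _ _ (PH Y) (T := Y) (fun _ => 𝟙 _) (fun U V i => by
    exact (Category.id_comp _).trans (Category.comp_id _).symm)

theorem Gι_toY (U : X.AffineZariskiSite) :
    Gι _ _ (PH Y) U ≫ toY Y = (isAffineOpen_pre Y (hA U)).fromSpec :=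
  (Gι_desc _ _ (PH Y) (T := Y) _ _ U).trans (by
    exact (congrArg (· ≫ _) (Spec.map_id _)).trans (Category.id_comp _))

instance isIso_toY : IsIso (toY Y) := by
  let 𝒰 : Scheme.OpenCover.{u} Y.left :=
    { I₀ := X.AffineZariskiSite
      X := fun U => Spec Γ(Y.left, pre Y U.toOpens)
      f := fun U => (isAffineOpen_pre Y (hA U)).fromSpec
      mem₀ := by
        rw [Scheme.presieve₀_mem_precoverage_iff]
        refine ⟨fun y => ?_, fun U => inferInstance⟩
        obtain ⟨_, ⟨U, hU, rfl⟩, hy, -⟩ :=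
          X.isBasis_affineOpens.exists_subset_of_mem_open (Set.mem_univ ((hm Y) y)) isOpen_univ
        exact ⟨⟨U, hU⟩, by rw [(isAffineOpen_pre Y hU).range_fromSpec]; exact hy⟩ }
  refine (IsZariskiLocalAtTarget.iff_of_openCover (P := MorphismProperty.isomorphisms Scheme) 𝒰).mpr
    fun U => ?_
  have hπ : toY Y ≫ (hm Y) = Gπ _ _ (PH Y) :=
    Gdesc_hom _ _ (PH Y) (T := Y) _ _ (fun U => Category.comp_id _)
  have h : IsPullback (Gι _ _ (PH Y) U) (𝟙 _) (toY Y) (isAffineOpen_pre Y (hA U)).fromSpec := by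
    refine (IsOpenImmersion.isPullback (U := Spec ((PF Y).obj (op U))) (V := Spec Γ(Y.left, pre Y U.toOpens)) (𝟙 _) (Gι _ _ (PH Y) U) (isAffineOpen_pre Y (hA U)).fromSpec (toY Y)
      ((Gι_toY Y U).trans (Category.id_comp _).symm) ?_).flip
    rw [(isAffineOpen_pre Y (hA U)).opensRange_fromSpec, ← Gπ_preimage, ← hπ, Scheme.Hom.comp_preimage]
  show IsIso (pullback.snd (toY Y) (isAffineOpen_pre Y (hA U)).fromSpec)
  exact h.isoPullback_inv_snd ▸ (inferInstance : IsIso (h.isoPullback.inv ≫ 𝟙 _))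

theorem left_hom_ext {Y : FEt.Cat X} {T : Scheme.{u}} {m m' : Y.left ⟶ T}
    (h : ∀ U : X.AffineZariskiSite, (isAffineOpen_pre Y (hA U)).fromSpec ≫ m =
      (isAffineOpen_pre Y (hA U)).fromSpec ≫ m') : m = m' := by
  rw [← cancel_epi (toY Y)]
  refine G_hom_ext _ _ (PH Y) fun U => ?_
  rw [reassoc_of% (Gι_toY Y U), reassoc_of% (Gι_toY Y U)]
  exact h U

end Self

/-! ## The diagram -/

section Diagram

variable {J : Type} [SmallCategory J] [FinCategory J] (D : J ⥤ FEt.Cat X)

/-- The objects of the diagram. -/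
abbrev Ob (J : Type) : Type u := ULift.{u} J

/-- The arrows of the diagram. -/
abbrev Ar (J : Type) [SmallCategory J] : Type u := ULift.{u} (Σ i k : J, i ⟶ k)

instance : Finite (Ar.{u} J) := inferInstance

/-- Functions on the members over an open. -/
abbrev As (U : X.Opens) (j : Ob.{u} J) : Type u := Γ((D.obj j.down).left, pre (D.obj j.down) U)

/-- Source of an arrow. -/
abbrev asrc (e : Ar.{u} J) : Ob.{u} J := ⟨e.down.1⟩

/-- Target of an arrow. -/
abbrev atgt (e : Ar.{u} J) : Ob.{u} J := ⟨e.down.2.1⟩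

/-- Transition maps. -/
abbrev gs (U : X.Opens) (e : Ar.{u} J) : As D U (atgt e) →+* As D U (asrc e) :=
  (pull (D.map e.down.2.2) U).hom

/-- Compatible families of functions. -/
abbrev E (U : X.Opens) : Subring (∀ j, As D U j) :=
  eqRing (A := As D U) (s := asrc) (t := atgt) (gs D U)

theorem gs_res {U V : X.Opens} (h : V ≤ U) (e : Ar.{u} J) (x : As D U (atgt e)) :
    gs D V e (res (D.obj e.down.2.1) h x) = res (D.obj e.down.1) h (gs D U e x) :=
  ConcreteCategory.congr_hom (res_pull (D.map e.down.2.2) h) x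

/-- Restriction of compatible families. -/
def resE {U V : X.Opens} (h : V ≤ U) : E D U →+* E D V where
  toFun x := ⟨fun j => res (D.obj j.down) h (x.1 j), fun e => by
    show gs D V e (res (D.obj e.down.2.1) h (x.1 (atgt e))) = res (D.obj e.down.1) h (x.1 (asrc e))
    rw [gs_res, x.2 e]⟩
  map_one' := Subtype.ext (funext fun _ => map_one _)
  map_mul' x y := Subtype.ext (funext fun _ => map_mul _ _ _)
  map_zero' := Subtype.ext (funext fun _ => map_zero _)
  map_add' x y := Subtype.ext (funext fun _ => map_add _ _ _)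

/-- Functions of the base. -/
def strE (U : X.Opens) : Γ(X, U) →+* E D U where
  toFun r := ⟨fun j => (hm (D.obj j.down)).app U r, fun e =>
    ConcreteCategory.congr_hom (str_pull (D.map e.down.2.2) U) r⟩
  map_one' := Subtype.ext (funext fun _ => map_one _)
  map_mul' x y := Subtype.ext (funext fun _ => map_mul _ _ _)
  map_zero' := Subtype.ext (funext fun _ => map_zero _)
  map_add' x y := Subtype.ext (funext fun _ => map_add _ _ _)

/-- The functor of compatible families. -/
abbrev EF : X.AffineZariskiSiteᵒᵖ ⥤ CommRingCat.{u} where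
  obj U := CommRingCat.of (E D U.unop.toOpens)
  map {U V} i := CommRingCat.ofHom (resE D (Scheme.AffineZariskiSite.toOpens_mono i.unop.le))
  map_id U := by
    ext x
    rename_i j
    show res (D.obj j.down) le_rfl (x.1 j) = x.1 j
    exact ConcreteCategory.congr_hom ((D.obj j.down).left.presheaf.map_id _) (x.1 j)
  map_comp {U V W} i k := by
    ext x
    rename_i j
    show res (D.obj j.down) _ (x.1 j) = res (D.obj j.down) _ (res (D.obj j.down) _ (x.1 j))
    exact ConcreteCategory.congr_hom ((D.obj j.down).left.presheaf.map_comp _ _) (x.1 j)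

/-- Its structure map. -/
def Eα : (Scheme.AffineZariskiSite.toOpensFunctor X).op ⋙ X.presheaf ⟶ EF D where
  app U := CommRingCat.ofHom (strE D U.unop.toOpens)
  naturality U V i := by
    ext r j
    exact (ConcreteCategory.congr_hom
      (str_res (D.obj j.down) (Scheme.AffineZariskiSite.toOpens_mono i.unop.le)) r).symm

theorem EH : (Eα D).Coequifibered :=
  Scheme.AffineZariskiSite.coequifibered_iff_forall_isLocalizationAway.mpr fun U r =>
    isLocalization_away_eqRing (A := As D U.toOpens) (A' := As D (X.basicOpen r)) (s := asrc) (t := atgt)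
      (gs D U.toOpens) (gs D (X.basicOpen r)) (fun j => (res (D.obj j.down) (X.basicOpen_le r)).hom)
      (fun e x => gs_res D (X.basicOpen_le r) e x) (strE D U.toOpens r) (resE D (X.basicOpen_le r))
      (fun x j => rfl) (fun j => isLoc_res (D.obj j.down) (hA U) r)

instance algebraAs (U : X.Opens) (j : Ob.{u} J) : Algebra Γ(X, U) (As D U j) :=
  ((hm (D.obj j.down)).app U).hom.toAlgebra

theorem algebraMap_As (U : X.Opens) (j : Ob.{u} J) (r : Γ(X, U)) :
    algebraMap Γ(X, U) (As D U j) r = (hm (D.obj j.down)).app U r := rfl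

/-- Transition maps as algebra maps. -/
def ga (U : X.Opens) (e : Ar.{u} J) :
    @AlgHom Γ(X, U) (As D U (atgt e)) (As D U (asrc e)) _ _ _ (algebraAs D U (atgt e)) (algebraAs D U (asrc e)) :=
  letI := algebraAs D U (atgt e)
  letI := algebraAs D U (asrc e)
  { gs D U e with commutes' := fun r => ConcreteCategory.congr_hom (str_pull (D.map e.down.2.2) U) r }

theorem etale_As {U : X.Opens} (hU : IsAffineOpen U) (j : Ob.{u} J) :
    Module.Finite Γ(X, U) (As D U j) ∧ Algebra.Etale Γ(X, U) (As D U j) := by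
  haveI : IsFinite (hm (D.obj j.down)) := (D.obj j.down).prop.1
  have h2 : AlgebraicGeometry.Etale (Spec.map ((hm (D.obj j.down)).app U)) :=
    MorphismProperty.of_isPullback (P := @AlgebraicGeometry.Etale)
      (isPullback_fromSpec (D.obj j.down) hU) (D.obj j.down).prop.2
  rw [HasRingHomProperty.Spec_iff (P := @AlgebraicGeometry.Etale)] at h2
  exact ⟨(hm (D.obj j.down)).finite_app U hU, h2⟩

/-- An affine open is good if the ranks of all members are constant on it. -/
structure Good (U : X.Opens) : Prop where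
  affine : IsAffineOpen U
  rank : ∃ n : ℕ, Module.rankAtStalk (R := Γ(X, U)) (∀ j, As D U j) = n

theorem exists_good (x : X) {V : X.Opens} (hx : x ∈ V) :
    ∃ U : X.Opens, Good D U ∧ x ∈ U ∧ U ≤ V := by
  classical
  haveI : Fintype (Ob.{u} J) := Fintype.ofFinite _
  have hloc : ∀ j : Ob.{u} J, IsOpen {y : X | (hm (D.obj j.down)).finrank y = (hm (D.obj j.down)).finrank x} := by
    intro j
    haveI : IsFinite (hm (D.obj j.down)) := (D.obj j.down).prop.1
    haveI : AlgebraicGeometry.Etale (hm (D.obj j.down)) := (D.obj j.down).prop.2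
    exact (Scheme.Hom.isLocallyConstant_finrank (hm (D.obj j.down))).isOpen_fiber _
  obtain ⟨_, ⟨U, hU, rfl⟩, hxU, hUV⟩ := X.isBasis_affineOpens.exists_subset_of_mem_open
    (a := x) (u := (V : Set X) ∩ ⋂ j : Ob.{u} J, {y | (hm (D.obj j.down)).finrank y = (hm (D.obj j.down)).finrank x})
    ⟨hx, Set.mem_iInter.mpr fun j => rfl⟩ (V.2.inter (isOpen_iInter_of_finite hloc))
  refine ⟨U, ⟨hU, ∑ j : Ob.{u} J, (hm (D.obj j.down)).finrank x, ?_⟩, hxU, fun y hy => (hUV hy).1⟩
  haveI := fun j => (etale_As D hU j).1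
  haveI := fun j => (etale_As D hU j).2
  funext p
  rw [Module.rankAtStalk_pi]
  simp only [finsum_eq_sum_of_fintype, Pi.natCast_def, Nat.cast_id, Finset.sum_apply]
  refine Finset.sum_congr rfl fun j _ => ?_
  haveI : IsFinite (hm (D.obj j.down)) := (D.obj j.down).prop.1
  haveI : AlgebraicGeometry.Etale (hm (D.obj j.down)) := (D.obj j.down).prop.2
  have h1 := Scheme.Hom.finrank_of_isPullback _ _ _ _ (isPullback_fromSpec (D.obj j.down) hU) p
  have h2 := Scheme.Hom.finrank_SpecMap_algebraMap Γ(X, U) (As D U j) p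
  rw [← h2]
  refine h1.trans ?_
  have hp : hU.fromSpec p ∈ U := by
    have : hU.fromSpec p ∈ Set.range hU.fromSpec := ⟨p, rfl⟩
    rwa [hU.range_fromSpec] at this
  exact Set.mem_iInter.mp (hUV hp).2 j

theorem strE_finite_etale {U : X.Opens} (hU : Good D U) :
    (strE D U).Finite ∧ (strE D U).Etale := by
  classical
  obtain ⟨hU, n, hn⟩ := hU
  haveI := fun j => (etale_As D hU j).1
  haveI := fun j => (etale_As D hU j).2
  obtain ⟨hf, he⟩ := finite_etale_fixed (R := Γ(X, U)) (A := ∀ j, As D U j) hn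
    (upd (As D U) asrc atgt (ga D U))
  letI := (strE D U).toAlgebra
  let e : fixedAlg (upd (As D U) asrc atgt (ga D U)) ≃ₐ[Γ(X, U)] E D U :=
    { toFun := fun x => ⟨x.1, (mem_fixed_upd (As D U) asrc atgt (ga D U)).mp x.2⟩
      invFun := fun x => ⟨x.1, (mem_fixed_upd (As D U) asrc atgt (ga D U)).mpr x.2⟩
      left_inv := fun _ => rfl
      right_inv := fun _ => rfl
      map_mul' := fun _ _ => rfl
      map_add' := fun _ _ => rfl
      commutes' := fun r => rfl }
  exact ⟨Module.Finite.equiv e.toLinearEquiv, Algebra.Etale.of_equiv e⟩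

/-- The structure morphism of the colimit. -/
abbrev Zπ : G (EF D) (Eα D) (EH D) ⟶ X := Gπ (EF D) (Eα D) (EH D)

theorem Zπ_prop : FEt.prop (Zπ D) := by
  let 𝒰 : Scheme.OpenCover.{u} X :=
    { I₀ := {U : X.Opens // Good D U}
      X := fun U => Spec Γ(X, U.1)
      f := fun U => U.2.affine.fromSpec
      mem₀ := by
        rw [Scheme.presieve₀_mem_precoverage_iff]
        refine ⟨fun x => ?_, fun U => inferInstance⟩
        obtain ⟨U, hU, hxU, -⟩ := exists_good D x (V := ⊤) trivial
        exact ⟨⟨U, hU⟩, by rw [hU.affine.range_fromSpec]; exact hxU⟩ }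
  have key : ∀ (P : MorphismProperty Scheme.{u}) [P.RespectsIso] (U : X.Opens) (hU : IsAffineOpen U),
      P (Spec.map (CommRingCat.ofHom (strE D U))) → P (pullback.snd (Zπ D) hU.fromSpec) := by
    intro P _ U hU hP
    have h := G_isPullback (EF D) (Eα D) (EH D) ⟨U, hU⟩
    exact h.isoPullback_inv_snd ▸ (MorphismProperty.cancel_left_of_respectsIso P h.isoPullback.inv _).mpr hP
  refine ⟨?_, ?_⟩
  · refine (IsZariskiLocalAtTarget.iff_of_openCover (P := @IsFinite) 𝒰).mpr fun U => ?_
    exact key @IsFinite U.1 U.2.affine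
      ((IsFinite.SpecMap_iff _).mpr (strE_finite_etale D U.2).1)
  · refine (IsZariskiLocalAtTarget.iff_of_openCover (P := @AlgebraicGeometry.Etale) 𝒰).mpr fun U => ?_
    exact key @AlgebraicGeometry.Etale U.1 U.2.affine
      ((HasRingHomProperty.Spec_iff (P := @AlgebraicGeometry.Etale)).mpr (strE_finite_etale D U.2).2)

/-- The colimit object. -/
def pt : FEt.Cat X := MorphismProperty.Over.mk ⊤ (Zπ D) (Zπ_prop D)

/-- Evaluation. -/
def ev (j : J) (U : X.Opens) : CommRingCat.of (E D U) ⟶ Γ((D.obj j).left, pre (D.obj j) U) :=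
  CommRingCat.ofHom ((Pi.evalRingHom (As D U) (ULift.up j)).comp (E D U).subtype)

/-- Evaluation, as a map of functors. -/
def evNat (j : J) : EF D ⟶ PF (D.obj j) where
  app U := ev D j U.unop.toOpens
  naturality U V i := by
    ext x
    rfl

/-- The map between glued schemes given by evaluation. -/
def legAux (j : J) : G (PF (D.obj j)) (Pα (D.obj j)) (PH (D.obj j)) ⟶ G (EF D) (Eα D) (EH D) :=
  colimMap (Functor.whiskerRight (NatTrans.rightOp (evNat D j)) Scheme.Spec)

theorem Gι_legAux (j : J) (U : X.AffineZariskiSite) :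
    Gι _ _ (PH (D.obj j)) U ≫ legAux D j = Spec.map (ev D j U.toOpens) ≫ Gι (EF D) (Eα D) (EH D) U :=
  ι_colimMap _ _

/-- A leg of the colimit. -/
def legHom (j : J) : (D.obj j).left ⟶ G (EF D) (Eα D) (EH D) := inv (toY (D.obj j)) ≫ legAux D j

theorem fromSpec_legHom (j : J) (U : X.AffineZariskiSite) :
    (isAffineOpen_pre (D.obj j) (hA U)).fromSpec ≫ legHom D j =
      Spec.map (ev D j U.toOpens) ≫ Gι (EF D) (Eα D) (EH D) U := by
  refine ((congrArg (· ≫ legHom D j) (Gι_toY (D.obj j) U)).symm.trans ?_)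
  exact (Category.assoc _ _ _).trans ((congrArg (Gι _ _ (PH (D.obj j)) U ≫ ·)
    (IsIso.hom_inv_id_assoc (toY (D.obj j)) (legAux D j))).trans (Gι_legAux D j U))

theorem legHom_π (j : J) : legHom D j ≫ Zπ D = (hm (D.obj j)) := by
  refine left_hom_ext fun U => ?_
  rw [reassoc_of% (fromSpec_legHom D j U), Gι_π, ← Spec.map_comp_assoc, fromSpec_hom _ (hA U)]
  rfl

/-- A leg, as a morphism of covers. -/
def leg (j : J) : D.obj j ⟶ pt D := MorphismProperty.Over.homMk (legHom D j) (legHom_π D j)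

/-- The colimit cocone. -/
def cocone : Cocone D where
  pt := pt D
  ι.app := leg D
  ι.naturality i k u := by
    refine MorphismProperty.Over.Hom.ext (left_hom_ext fun U => ?_)
    show (isAffineOpen_pre (D.obj i) (hA U)).fromSpec ≫ ((D.map u).left ≫ legHom D k) =
      (isAffineOpen_pre (D.obj i) (hA U)).fromSpec ≫ (legHom D i ≫ 𝟙 _)
    rw [Category.comp_id, reassoc_of% (fromSpec_left (D.map u) (hA U)), fromSpec_legHom, fromSpec_legHom,
      ← Spec.map_comp_assoc]
    congr 2
    ext x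
    exact x.2 ⟨⟨i, k, u⟩⟩

/-- The ring map of a cocone. -/
def tuple (c : Cocone D) (U : X.AffineZariskiSite) : Γ(c.pt.left, pre c.pt U.toOpens) ⟶ (EF D).obj (op U) :=
  CommRingCat.ofHom (RingHom.codRestrict (RingHom.pi fun j : Ob.{u} J => (pull (c.ι.app j.down) U.toOpens).hom)
    (E D U.toOpens) fun x e => by
      show pull (D.map e.down.2.2) U.toOpens (pull (c.ι.app e.down.2.1) U.toOpens x) = pull (c.ι.app e.down.1) U.toOpens x
      have hw : D.map e.down.2.2 ≫ c.ι.app e.down.2.1 = c.ι.app e.down.1 := c.w e.down.2.2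
      have := pull_comp' (D.map e.down.2.2) (c.ι.app e.down.2.1) U.toOpens
      rw [hw] at this
      exact ConcreteCategory.congr_hom this.symm x)

end Diagram

end Groth.L27.FEtGal
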