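import Groth.Agent.L27.FEtGal.Colim
import Mathlib.CategoryTheory.Limits.Types.Colimits

/-!
# The glued cocone is colimiting, and geometric fibres preserve finite colimits
-/

set_option autoImplicit false
set_option linter.style.haveILetI false
set_option linter.unusedSectionVars false
set_option backward.isDefEq.respectTransparency.types false

universe u

open CategoryTheory CategoryTheory.Limits AlgebraicGeometry TopologicalSpace Opposite
open scoped Classical
open Groth.L18.SchFin (fixedAlg)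

noncomputable section

namespace Groth.L27.FEtGal

variable {X : Scheme.{u}} {J : Type} [SmallCategory J] [FinCategory J] (D : J ⥤ FEt.Cat X)

theorem tuple_res (c : Cocone D) (U V : X.AffineZariskiSite) (i : V ⟶ U) :
    tuple D c U ≫ (EF D).map i.op =
      res c.pt (Scheme.AffineZariskiSite.toOpens_mono i.le) ≫ tuple D c V := by
  ext x j
  exact (ConcreteCategory.congr_hom (res_pull (c.ι.app j.down) (Scheme.AffineZariskiSite.toOpens_mono i.le)) x).symm

theorem tuple_str (c : Cocone D) (U : X.AffineZariskiSite) :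
    (hm c.pt).app U.toOpens ≫ tuple D c U = (Eα D).app (op U) := by
  ext x j
  exact ConcreteCategory.congr_hom (str_pull (c.ι.app j.down) U.toOpens) x

/-- The map out of the colimit. -/
def desc (c : Cocone D) : pt D ⟶ c.pt :=
  MorphismProperty.Over.homMk (Gdesc (EF D) (Eα D) (EH D) (tuple D c) (tuple_res D c))
    (Gdesc_hom (EF D) (Eα D) (EH D) (tuple D c) (tuple_res D c) (tuple_str D c))

/-- The glued cocone is colimiting. -/
def isColimit : IsColimit (cocone D) where
  desc c := desc D c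
  fac c j := by
    refine MorphismProperty.Over.Hom.ext (left_hom_ext fun U => ?_)
    show (isAffineOpen_pre (D.obj j) (hA U)).fromSpec ≫ legHom D j ≫
      Gdesc (EF D) (Eα D) (EH D) (tuple D c) (tuple_res D c) = _
    rw [reassoc_of% (fromSpec_legHom D j U), Gι_desc, ← Spec.map_comp_assoc, fromSpec_left _ (hA U)]
    rfl
  uniq c m hm' := by
    refine MorphismProperty.Over.Hom.ext (G_hom_ext _ _ _ fun U => ?_)
    obtain ⟨a, ha⟩ := exists_chart (EF D) (Eα D) (EH D) (T := c.pt) (m := m.left)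
      (MorphismProperty.Over.w m) U
    refine ha.trans (Eq.trans ?_ (Gι_desc (EF D) (Eα D) (EH D) (tuple D c) (tuple_res D c) U).symm)
    congr 2
    ext x j
    have key : Spec.map (a ≫ ev D j.down U.toOpens) ≫ (isAffineOpen_pre c.pt (hA U)).fromSpec =
        Spec.map (pull (c.ι.app j.down) U.toOpens) ≫ (isAffineOpen_pre c.pt (hA U)).fromSpec := by
      rw [← fromSpec_left (c.ι.app j.down) (hA U), ← hm' j.down, Spec.map_comp, Category.assoc, ← ha]
      refine (Category.assoc _ _ _).symm.trans ((congrArg (· ≫ m.left) (fromSpec_legHom D j.down U).symm).trans ?_)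
      exact Category.assoc _ _ _
    haveI : IsOpenImmersion (isAffineOpen_pre c.pt (hA U)).fromSpec :=
      (isAffineOpen_pre c.pt (hA U)).isOpenImmersion_fromSpec
    exact ConcreteCategory.congr_hom (Spec.map_injective ((cancel_mono _).mp key)) x

/-- A cocone of types is colimiting if it is jointly surjective with the correct identifications. -/
theorem isColimit_types {K : Type} [SmallCategory K] {F : K ⥤ Type u} (c : Cocone F)
    (hs : ∀ x : c.pt, ∃ (j : K) (y : F.obj j), c.ι.app j y = x)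
    (hi : ∀ (i j : K) (x : F.obj i) (y : F.obj j), c.ι.app i x = c.ι.app j y →
      colimit.ι F i x = colimit.ι F j y) : Nonempty (IsColimit c) := by
  have hd : ∀ i (x : F.obj i), colimit.desc F c (colimit.ι F i x) = c.ι.app i x := fun i x =>
    ConcreteCategory.congr_hom (colimit.ι_desc c i) x
  have hb : Function.Bijective (colimit.desc F c) := by
    refine ⟨fun a b h => ?_, fun x => ?_⟩
    · obtain ⟨i, x, rfl⟩ := Types.jointly_surjective' a
      obtain ⟨j, y, rfl⟩ := Types.jointly_surjective' b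
      rw [hd, hd] at h
      exact hi i j x y h
    · obtain ⟨j, y, rfl⟩ := hs x
      exact ⟨colimit.ι F j y, hd j y⟩
  haveI : IsIso ((colimit.isColimit F).desc c) :=
    (ConcreteCategory.isIso_iff_bijective (colimit.desc F c)).mpr hb
  exact ⟨IsColimit.ofPointIso (colimit.isColimit F)⟩

section Fibre

variable {Ω : Type u} [Field Ω] (ξ : Spec (CommRingCat.of Ω) ⟶ X)

theorem pt_eq_default (z : Spec (CommRingCat.of Ω)) : ξ z = ξ default := congrArg _ (Subsingleton.elim z default)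

theorem exists_chart_pt {Y : FEt.Cat X} (s : FEt.fiberObj ξ Y) {U : X.Opens} (hU : IsAffineOpen U)
    (hx : ξ default ∈ U) :
    ∃ φ : Γ(Y.left, pre Y U) ⟶ CommRingCat.of Ω,
      s.1 = Spec.map φ ≫ (isAffineOpen_pre Y hU).fromSpec := by
  have hr : Set.range s.1 ⊆ Set.range (isAffineOpen_pre Y hU).fromSpec := by
    rw [(isAffineOpen_pre Y hU).range_fromSpec]
    rintro _ ⟨z, rfl⟩
    show hm Y (s.1 z) ∈ U
    have e : s.1 ≫ hm Y = ξ := s.2
    rw [← Scheme.Hom.comp_apply, e, pt_eq_default]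
    exact hx
  exact ⟨Spec.preimage (IsOpenImmersion.lift _ _ hr),
    by rw [Spec.map_preimage]; exact (IsOpenImmersion.lift_fac _ _ hr).symm⟩

/-- Classes in the colimit of the fibres attached to a point of the product. -/
def Cls (U : X.Opens) (hU : IsAffineOpen U) (Φ : (∀ j, As D U j) →+* Ω) :
    Set (colimit (D ⋙ FEt.fiber ξ)) :=
  {c | ∃ (j : Ob.{u} J) (φ : Γ((D.obj j.down).left, pre (D.obj j.down) U) ⟶ CommRingCat.of Ω)
      (s : FEt.fiberObj ξ (D.obj j.down)), Φ = φ.hom.comp (Pi.evalRingHom (As D U) j) ∧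
      s.1 = Spec.map φ ≫ (isAffineOpen_pre (D.obj j.down) hU).fromSpec ∧
      colimit.ι (D ⋙ FEt.fiber ξ) j.down s = c}

theorem cls_subsingleton {U : X.Opens} (hU : IsAffineOpen U) {Φ : (∀ j, As D U j) →+* Ω}
    {c c' : colimit (D ⋙ FEt.fiber ξ)} (hc : c ∈ Cls D ξ U hU Φ) (hc' : c' ∈ Cls D ξ U hU Φ) : c = c' := by
  obtain ⟨j, φ, s, h1, h2, rfl⟩ := hc
  obtain ⟨j', φ', s', h1', h2', rfl⟩ := hc'
  obtain rfl := factor_unique (A := As D U) (h1.symm.trans h1')
  obtain rfl := CommRingCat.hom_ext (factor_inj (A := As D U) (h1.symm.trans h1'))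
  rw [show s = s' from Subtype.ext (h2.trans h2'.symm)]

theorem cls_step {U : X.Opens} (hU : IsAffineOpen U) (e : Ar.{u} J) {Φ Φ' : (∀ j, As D U j) →+* Ω}
    (h : ∀ a, Φ' a = Φ (upd (As D U) asrc atgt (ga D U) e a)) :
    Cls D ξ U hU Φ = Cls D ξ U hU Φ' := by
  classical
  obtain ⟨j, ψ, hψ⟩ := exists_factor (As D U) Φ
  by_cases hj : j = asrc e
  · subst hj
    obtain ⟨⟨a, b, v⟩⟩ := e
    have h' : Φ' = ((pull (D.map v) U) ≫ CommRingCat.ofHom ψ).hom.comp
        (Pi.evalRingHom (As D U) (atgt ⟨⟨a, b, v⟩⟩)) := RingHom.ext fun x => by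
      rw [h, hψ]
      show ψ (upd (As D U) asrc atgt (ga D U) ⟨⟨a, b, v⟩⟩ x (asrc ⟨⟨a, b, v⟩⟩)) = _
      rw [upd_apply_self]
      rfl
    have hmove : ∀ s : FEt.fiberObj ξ (D.obj a),
        colimit.ι (D ⋙ FEt.fiber ξ) b ((FEt.fiber ξ).map (D.map v) s) =
          colimit.ι (D ⋙ FEt.fiber ξ) a s := fun s =>
      ConcreteCategory.congr_hom (colimit.w (D ⋙ FEt.fiber ξ) v) s
    have hspec : (Spec.map (CommRingCat.ofHom ψ) ≫ (isAffineOpen_pre (D.obj a) hU).fromSpec) ≫ (D.map v).left =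
        Spec.map (pull (D.map v) U ≫ CommRingCat.ofHom ψ) ≫ (isAffineOpen_pre (D.obj b) hU).fromSpec := by
      refine (Category.assoc _ _ _).trans ((congrArg (Spec.map (CommRingCat.ofHom ψ) ≫ ·)
        (fromSpec_left (D.map v) hU)).trans ?_)
      rw [← Category.assoc, ← Spec.map_comp]
    ext c
    constructor
    · rintro ⟨i, φ, s, h1, h2, rfl⟩
      obtain rfl := factor_unique (A := As D U) (h1.symm.trans hψ)
      obtain rfl : φ = CommRingCat.ofHom ψ :=
        CommRingCat.hom_ext (factor_inj (A := As D U) (h1.symm.trans hψ))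
      exact ⟨atgt ⟨⟨a, b, v⟩⟩, _, (FEt.fiber ξ).map (D.map v) s, h',
        (congrArg (· ≫ (D.map v).left) h2).trans hspec, hmove s⟩
    · rintro ⟨i, φ, s, h1, h2, rfl⟩
      obtain rfl := factor_unique (A := As D U) (h1.symm.trans h')
      obtain rfl := CommRingCat.hom_ext (factor_inj (A := As D U) (h1.symm.trans h'))
      have hs' : (Spec.map (CommRingCat.ofHom ψ) ≫ (isAffineOpen_pre (D.obj a) hU).fromSpec) ≫
          (D.obj a).hom = ξ := by
        refine ((congrArg (fun m => _ ≫ m) (MorphismProperty.Over.w (D.map v)).symm).trans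
          (Category.assoc _ _ _).symm).trans ?_
        exact (congrArg (· ≫ (D.obj b).hom) (hspec.trans h2.symm)).trans s.2
      refine ⟨asrc ⟨⟨a, b, v⟩⟩, CommRingCat.ofHom ψ, ⟨_, hs'⟩, hψ, rfl, ?_⟩
      rw [show s = (FEt.fiber ξ).map (D.map v) (⟨_, hs'⟩ : FEt.fiberObj ξ (D.obj a)) from
        Subtype.ext (h2.trans hspec.symm), hmove]
  · rw [show Φ' = Φ from RingHom.ext fun x => by
      rw [h, hψ]
      exact congrArg ψ (upd_apply_ne (As D U) asrc atgt (ga D U) e x hj)]

theorem exists_pt_over [IsAlgClosed Ω] (s : FEt.fiberObj ξ (pt D)) :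
    ∃ (j : J) (y : FEt.fiberObj ξ (D.obj j)), y.1 ≫ legHom D j = s.1 := by
  classical
  obtain ⟨U, hU, hxU, -⟩ := exists_good D (ξ default) (V := ⊤) trivial
  let U' : X.AffineZariskiSite := ⟨U, hU.affine⟩
  haveI := isOpenImmersion_Gι (EF D) (Eα D) (EH D) U'
  have hr : Set.range s.1 ⊆ Set.range (Gι (EF D) (Eα D) (EH D) U') := by
    rintro _ ⟨z, rfl⟩
    have hz : s.1 z ∈ Gπ (EF D) (Eα D) (EH D) ⁻¹ᵁ U'.toOpens := by
      show Zπ D (s.1 z) ∈ U
      have e : s.1 ≫ Zπ D = ξ := s.2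
      exact (congrArg (fun m => m z ∈ U) e).mpr ((pt_eq_default ξ z).symm ▸ hxU)
    rw [Gπ_preimage] at hz
    exact hz
  let s1 : Spec (CommRingCat.of Ω) ⟶ G (EF D) (Eα D) (EH D) := s.1
  have hr1 : Set.range s1 ⊆ Set.range (Gι (EF D) (Eα D) (EH D) U') := hr
  let φ := Spec.preimage (IsOpenImmersion.lift _ _ hr1)
  have hφ : Spec.map φ ≫ Gι (EF D) (Eα D) (EH D) U' = s.1 := by
    rw [Spec.map_preimage]; exact IsOpenImmersion.lift_fac _ _ hr1
  haveI := fun j => (etale_As D hU.affine j).1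
  have hfin : (E D U).subtype.Finite := by
    refine RingHom.Finite.of_comp_finite (f := strE D U) ?_
    show (algebraMap Γ(X, U) (∀ j, As D U j)).Finite
    exact RingHom.finite_algebraMap.mpr inferInstance
  obtain ⟨Ψ, hΨ⟩ := Groth.L18.SchFin.exists_extension (Ω := Ω) (E D U).subtype hfin
    Subtype.val_injective φ.hom
  obtain ⟨j, ψ, rfl⟩ := exists_factor (As D U) Ψ
  have e : (Spec.map (CommRingCat.ofHom ψ) ≫ (isAffineOpen_pre (D.obj j.down) hU.affine).fromSpec) ≫
      legHom D j.down = s.1 := by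
    rw [Category.assoc]
    refine (congrArg (Spec.map (CommRingCat.ofHom ψ) ≫ ·) (fromSpec_legHom D j.down U')).trans ?_
    rw [← hφ, ← Category.assoc, ← Spec.map_comp]
    congr 2
    exact CommRingCat.hom_ext hΨ
  refine ⟨j.down, ⟨_, ?_⟩, e⟩
  exact ((congrArg (fun m => _ ≫ m) (legHom_π D j.down).symm).trans (Category.assoc _ _ _).symm).trans
    ((congrArg (· ≫ Zπ D) e).trans s.2)

theorem colimit_ι_eq [IsAlgClosed Ω] {i k : J} (x : FEt.fiberObj ξ (D.obj i)) (y : FEt.fiberObj ξ (D.obj k))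
    (h : x.1 ≫ legHom D i = y.1 ≫ legHom D k) :
    colimit.ι (D ⋙ FEt.fiber ξ) i x = colimit.ι (D ⋙ FEt.fiber ξ) k y := by
  classical
  obtain ⟨U, hU, hxU, -⟩ := exists_good D (ξ default) (V := ⊤) trivial
  let U' : X.AffineZariskiSite := ⟨U, hU.affine⟩
  haveI := isOpenImmersion_Gι (EF D) (Eα D) (EH D) U'
  obtain ⟨φ, hφ⟩ := exists_chart_pt ξ x hU.affine hxU
  obtain ⟨ψ, hψ⟩ := exists_chart_pt ξ y hU.affine hxU
  have hE : ev D i U ≫ φ = ev D k U ≫ ψ := by
    apply Spec.map_injective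
    rw [← cancel_mono (Gι (EF D) (Eα D) (EH D) U'), Spec.map_comp, Spec.map_comp, Category.assoc,
      Category.assoc]
    refine ((congrArg (Spec.map φ ≫ ·) (fromSpec_legHom D i U')).symm.trans ?_).trans
      (congrArg (Spec.map ψ ≫ ·) (fromSpec_legHom D k U'))
    rw [← Category.assoc, ← Category.assoc]
    exact ((congrArg (· ≫ legHom D i) hφ).symm.trans h).trans (congrArg (· ≫ legHom D k) hψ)
  obtain ⟨n, hn⟩ := hU.rank
  haveI := fun j => (etale_As D hU.affine j).1
  haveI := fun j => (etale_As D hU.affine j).2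
  let Φ : (∀ j, As D U j) →+* Ω := φ.hom.comp (Pi.evalRingHom (As D U) (ULift.up i))
  let Ψ : (∀ j, As D U j) →+* Ω := ψ.hom.comp (Pi.evalRingHom (As D U) (ULift.up k))
  have hfix : ∀ a ∈ fixedAlg (upd (As D U) asrc atgt (ga D U)), Φ a = Ψ a := fun a ha =>
    ConcreteCategory.congr_hom hE (⟨a, (mem_fixed_upd (As D U) asrc atgt (ga D U)).mp ha⟩ : E D U)
  have hgen := eqvGen_of_eqOn_fixed (R := Γ(X, U)) hn (upd (As D U) asrc atgt (ga D U)) Φ Ψ
    (fun r => ConcreteCategory.congr_hom hE (strE D U r)) hfix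
  have heq : ∀ α β, Relation.EqvGen (fun α β : (∀ j, As D U j) →+* Ω => ∃ g, ∀ a,
      β a = α (upd (As D U) asrc atgt (ga D U) g a)) α β → Cls D ξ U hU.affine α = Cls D ξ U hU.affine β := by
    intro α β hαβ
    induction hαβ with
    | rel α β hr => obtain ⟨g, hg⟩ := hr; exact cls_step D ξ hU.affine g hg
    | refl => rfl
    | symm _ _ _ ih => exact ih.symm
    | trans _ _ _ _ _ ih ih' => exact ih.trans ih'
  have hx : colimit.ι (D ⋙ FEt.fiber ξ) i x ∈ Cls D ξ U hU.affine Φ := ⟨ULift.up i, φ, x, rfl, hφ, rfl⟩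
  rw [heq Φ Ψ hgen] at hx
  exact cls_subsingleton D ξ hU.affine hx ⟨ULift.up k, ψ, y, rfl, hψ, rfl⟩

/-- Geometric fibres preserve the colimit. -/
theorem isColimit_fiber [IsAlgClosed Ω] : Nonempty (IsColimit ((FEt.fiber ξ).mapCocone (cocone D))) :=
  isColimit_types _
    (fun s => by
      obtain ⟨j, y, hy⟩ := exists_pt_over D ξ s
      exact ⟨j, y, Subtype.ext hy⟩)
    (fun i k x y h => colimit_ι_eq D ξ x y (congrArg Subtype.val h))

end Fibre

theorem hasFiniteColimits : HasFiniteColimits (FEt.Cat X) :=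
  ⟨fun _ _ _ => ⟨fun D => ⟨⟨⟨cocone D, isColimit D⟩⟩⟩⟩⟩

theorem preservesFiniteColimits_fiber {Ω : Type u} [Field Ω] [IsAlgClosed Ω]
    (ξ : Spec (CommRingCat.of Ω) ⟶ X) : PreservesFiniteColimits (FEt.fiber ξ) :=
  ⟨fun _ _ _ => ⟨fun {D} => preservesColimit_of_preserves_colimit_cocone (isColimit D)
    (isColimit_fiber D ξ).some⟩⟩

end Groth.L27.FEtGal
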