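import Groth.Agent.L18.SchFin.Fib
import Groth.Agent.L18.SchFin.InvAlg
import Mathlib.RingTheory.TotallySplit

/-!
# Equalizers of finite families of finite étale algebras

For a finite family of endomorphisms of a finite étale algebra: the fixed algebra is finite étale and two
geometric points agreeing on it are connected by a zigzag of the endomorphisms.  Diagrams of algebras are
handled by the endomorphisms of their product.
-/

set_option autoImplicit false
set_option linter.style.haveILetI false
set_option linter.unusedSectionVars false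

universe u

open TensorProduct Groth.L18.SchFin

namespace Groth.L27.FEtGal

section Split

variable {B : Type u} [CommRing B] {n : ℕ} {ι : Type u} [Fintype ι]
  (τ : ι → ((Fin n → B) →ₐ[B] (Fin n → B)))

open Classical in
/-- The idempotent of a class is fixed. -/
theorem classIdem_mem (c : ι → Fin n → Fin n) (q : Quotient (orbitSetoid c)) :
    (fun l => if Quotient.mk (orbitSetoid c) l = q then splitIdem τ c else 0) ∈ fixedAlg τ := by
  refine mem_fixedAlg.mpr fun g => funext fun i => ?_
  have hq : Quotient.mk (orbitSetoid c) (c g i) = Quotient.mk (orbitSetoid c) i :=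
    Quotient.sound ((Relation.EqvGen.rel _ _ ⟨g, rfl⟩).symm _ _)
  rw [split_expand, Finset.sum_eq_single (c g i)]
  · simp only [hq]
    split_ifs
    · rw [splitIdem_mul, if_pos rfl]
    · rw [zero_mul]
  · intro j _ hj
    split_ifs
    · rw [splitIdem_mul, if_neg hj]
    · rw [zero_mul]
  · intro h; exact (h (Finset.mem_univ _)).elim

end Split

section Fixed

variable {R A : Type u} [CommRing R] [CommRing A] [Algebra R A] {ι : Type u} [Finite ι]

/-- Finiteness and étaleness of fixed algebras in constant rank. -/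
theorem finite_etale_fixed [Algebra.Etale R A] [Module.Finite R A] {n : ℕ}
    (hn : Module.rankAtStalk (R := R) A = n) (σ : ι → (A →ₐ[R] A)) :
    Module.Finite R (fixedAlg σ) ∧ Algebra.Etale R (fixedAlg σ) := by
  obtain ⟨T, _, _, _, _, _, hT⟩ := Algebra.IsFiniteSplit.exists_tensorProduct_of_etale hn
  obtain ⟨m, ⟨e⟩⟩ := hT.nonempty_algEquiv_fun
  haveI := etale_fixed e σ
  haveI : Algebra.IsIntegral R (fixedAlg σ) :=
    ⟨fun x => isIntegral_algHom_iff (fixedAlg σ).val Subtype.val_injective |>.mp
      (Algebra.IsIntegral.isIntegral (R := R) x.1)⟩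
  exact ⟨Algebra.IsIntegral.finite, inferInstance⟩

variable {Ω : Type u} [Field Ω] [IsAlgClosed Ω]

/-- Points agreeing on the fixed algebra are connected by the endomorphisms. -/
theorem eqvGen_of_eqOn_fixed [Algebra.Etale R A] [Module.Finite R A] {n : ℕ}
    (hn : Module.rankAtStalk (R := R) A = n) (σ : ι → (A →ₐ[R] A)) (φ φ' : A →+* Ω)
    (hR : ∀ r, φ (algebraMap R A r) = φ' (algebraMap R A r)) (h : ∀ a ∈ fixedAlg σ, φ a = φ' a) :
    Relation.EqvGen (fun α β : A →+* Ω => ∃ g, ∀ a, β a = α (σ g a)) φ φ' := by
  classical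
  haveI := Fintype.ofFinite ι
  obtain ⟨B, _, _, _, _, _, hT⟩ := Algebra.IsFiniteSplit.exists_tensorProduct_of_etale hn
  obtain ⟨m, ⟨e⟩⟩ := hT.nonempty_algEquiv_fun
  letI := (φ.comp (algebraMap R A)).toAlgebra
  obtain ⟨β, hβ⟩ := exists_extension (Ω := Ω) (algebraMap R B) (RingHom.finite_algebraMap.mpr inferInstance)
    (FaithfulSMul.algebraMap_injective R B) (φ.comp (algebraMap R A))
  let βA : B →ₐ[R] Ω := { β with commutes' := fun r => RingHom.congr_fun hβ r }
  let τ : ι → ((Fin m → B) →ₐ[B] (Fin m → B)) := fun g =>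
    e.toAlgHom.comp ((Algebra.TensorProduct.map (AlgHom.id B B) (σ g)).comp e.symm.toAlgHom)
  have hτ : ∀ g y, τ g (e y) = e (Algebra.TensorProduct.map (AlgHom.id B B) (σ g) y) := fun g y => by
    show e (Algebra.TensorProduct.map (AlgHom.id B B) (σ g) (e.symm (e y))) = _
    rw [e.symm_apply_apply]
  -- the points of the split algebra
  have key : ∀ χ : A →ₐ[R] Ω, ∃ i : Fin m, ∀ z,
      Algebra.TensorProduct.lift βA χ (fun _ _ => Commute.all _ _) z = β (e z i) := by
    intro χ
    let L := Algebra.TensorProduct.lift βA χ (fun _ _ => Commute.all _ _)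
    let Λ : (Fin m → B) →+* Ω := L.toRingHom.comp e.symm.toRingEquiv.toRingHom
    have hΛ : ∀ b : B, Λ (algebraMap B _ b) = β b := fun b => by
      show L (e.symm (algebraMap B _ b)) = β b
      rw [AlgEquiv.commutes]
      show L (b ⊗ₜ 1) = β b
      exact (Algebra.TensorProduct.lift_tmul ..).trans (by rw [map_one, mul_one]; rfl)
    obtain ⟨i, hi⟩ : ∃ i, Λ (Pi.single i 1) ≠ 0 := by
      by_contra hne
      push Not at hne
      have : Λ 1 = 0 := by
        rw [show (1 : Fin m → B) = ∑ i, Pi.single i 1 from (Finset.univ_sum_single 1).symm, map_sum]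
        exact Finset.sum_eq_zero fun i _ => hne i
      exact one_ne_zero ((map_one Λ).symm.trans this)
    have h1 : Λ (Pi.single i 1) = 1 := by
      have : Λ (Pi.single i 1) * Λ (Pi.single i 1) = Λ (Pi.single i 1) := by
        rw [← map_mul, ← Pi.single_mul, one_mul]
      exact mul_right_cancel₀ hi (this.trans (one_mul _).symm)
    refine ⟨i, fun z => ?_⟩
    have h2 : e z * Pi.single i 1 = algebraMap B (Fin m → B) (e z i) * Pi.single i 1 := by
      funext l
      by_cases hl : l = i
      · subst hl; simp
      · simp [hl]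
    have h3 := congrArg Λ h2
    rw [map_mul, map_mul, h1, mul_one, mul_one, hΛ] at h3
    rw [← h3]
    show L z = L (e.symm (e z))
    rw [e.symm_apply_apply]
  let φA : A →ₐ[R] Ω := { φ with commutes' := fun r => rfl }
  let φA' : A →ₐ[R] Ω := { φ' with commutes' := fun r => (hR r).symm }
  obtain ⟨i, hi⟩ := key φA
  obtain ⟨i', hi'⟩ := key φA'
  let pt : Fin m → (A →+* Ω) := fun l =>
    (β.comp (Pi.evalRingHom (fun _ => B) l)).comp
      (e.toRingEquiv.toRingHom.comp (Algebra.TensorProduct.includeRight (A := B)).toRingHom)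
  have hpt : ∀ a l, pt l a = β (e (1 ⊗ₜ a) l) := fun _ _ => rfl
  have hφ : φ = pt i := RingHom.ext fun a => by
    rw [hpt, ← hi, Algebra.TensorProduct.lift_tmul, map_one, one_mul]; rfl
  have hφ' : φ' = pt i' := RingHom.ext fun a => by
    rw [hpt, ← hi', Algebra.TensorProduct.lift_tmul, map_one, one_mul]; rfl
  -- the combinatorial type at the point
  obtain ⟨c, hc⟩ : ∃ c, β (splitIdem τ c) = 1 := by
    by_contra hne
    push Not at hne
    have : (1 : Ω) = 0 := by
      rw [← map_one β, ← splitIdem_sum τ, map_sum]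
      refine Finset.sum_eq_zero fun c _ => ?_
      have hi := congrArg β (splitIdem_idem τ c).eq
      rw [map_mul] at hi
      by_contra h0
      exact hne c (mul_right_cancel₀ h0 (hi.trans (one_mul _).symm))
    exact one_ne_zero this
  have step : ∀ g l a, pt (c g l) a = pt l (σ g a) := fun g l a => by
    rw [hpt, hpt]
    have e1 : e ((1 : B) ⊗ₜ σ g a) = τ g (e (1 ⊗ₜ a)) := by
      rw [hτ, Algebra.TensorProduct.map_tmul]; rfl
    have e2 : splitIdem τ c * e (1 ⊗ₜ σ g a) l = splitIdem τ c * e (1 ⊗ₜ a) (c g l) := by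
      rw [e1, split_expand, Finset.mul_sum, Finset.sum_eq_single (c g l)]
      · rw [mul_left_comm, splitIdem_mul, if_pos rfl, mul_comm]
      · intro j _ hj
        rw [mul_left_comm, splitIdem_mul, if_neg hj, mul_zero]
      · intro hh; exact (hh (Finset.mem_univ _)).elim
    have := congrArg β e2
    rw [map_mul, map_mul, hc, one_mul, one_mul] at this
    exact this.symm
  have hclass : ∀ l l', (orbitSetoid c).r l l' →
      Relation.EqvGen (fun α β : A →+* Ω => ∃ g, ∀ a, β a = α (σ g a)) (pt l) (pt l') := by
    intro l l' hll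
    induction hll with
    | rel l l' hh => obtain ⟨g, rfl⟩ := hh; exact .rel _ _ ⟨g, step g l⟩
    | refl l => exact .refl _
    | symm l l' _ ih => exact ih.symm _ _
    | trans l l' l'' _ _ ih ih' => exact ih.trans _ _ _ ih'
  rw [hφ, hφ']
  refine hclass i i' (Quotient.exact ?_)
  by_contra hne
  let q : Quotient (orbitSetoid c) := Quotient.mk _ i
  let U : Fin m → B := fun l => if Quotient.mk (orbitSetoid c) l = q then splitIdem τ c else 0
  obtain ⟨w, hw⟩ := mem_range_lTensor_fixed (S := B) σ (e.symm U) (fun g => e.injective (by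
    rw [← hτ, e.apply_symm_apply]
    exact mem_fixedAlg.mp (classIdem_mem τ c q) g))
  have hagree : ∀ w : B ⊗[R] fixedAlg σ,
      Algebra.TensorProduct.lift βA φA (fun _ _ => Commute.all _ _)
        (Algebra.TensorProduct.map (AlgHom.id B B) (fixedAlg σ).val w) =
      Algebra.TensorProduct.lift βA φA' (fun _ _ => Commute.all _ _)
        (Algebra.TensorProduct.map (AlgHom.id B B) (fixedAlg σ).val w) := by
    intro w
    induction w using TensorProduct.induction_on with
    | zero => simp
    | tmul b a =>
      rw [Algebra.TensorProduct.map_tmul, Algebra.TensorProduct.lift_tmul,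
        Algebra.TensorProduct.lift_tmul]
      exact congrArg (_ * ·) (h a.1 a.2)
    | add y y' hy hy' => simp only [map_add, hy, hy']
  have h4 := hagree w
  rw [hw, hi, hi', e.apply_symm_apply] at h4
  simp only [U, q, if_pos, if_neg (Ne.symm hne), map_zero, hc] at h4
  exact one_ne_zero h4

end Fixed

section Diagram

variable {R : Type u} [CommRing R] {J : Type u} [DecidableEq J] (A : J → Type u)
  [∀ j, CommRing (A j)] [∀ j, Algebra R (A j)] {E : Type u} (s t : E → J)
  (g : ∀ e, A (t e) →ₐ[R] A (s e))

/-- The endomorphism of the product attached to an arrow. -/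
def upd (e : E) : (∀ j, A j) →ₐ[R] (∀ j, A j) where
  toFun x := Function.update x (s e) (g e (x (t e)))
  map_one' := by
    funext j; by_cases h : j = s e
    · subst h; simp
    · simp [h]
  map_mul' x y := by
    funext j; by_cases h : j = s e
    · subst h; simp
    · simp [h]
  map_zero' := by
    funext j; by_cases h : j = s e
    · subst h; simp
    · simp [h]
  map_add' x y := by
    funext j; by_cases h : j = s e
    · subst h; simp
    · simp [h]
  commutes' r := by
    funext j; by_cases h : j = s e
    · subst h; simp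
    · simp [h]

theorem mem_fixed_upd {x : ∀ j, A j} :
    x ∈ fixedAlg (upd A s t g) ↔ ∀ e, g e (x (t e)) = x (s e) := by
  rw [mem_fixedAlg]
  refine forall_congr' fun e => ?_
  show Function.update x (s e) (g e (x (t e))) = x ↔ _
  exact Function.update_eq_self_iff

theorem upd_apply_self (e : E) (x : ∀ j, A j) : upd A s t g e x (s e) = g e (x (t e)) :=
  Function.update_self ..

theorem upd_apply_ne (e : E) (x : ∀ j, A j) {j : J} (h : j ≠ s e) : upd A s t g e x j = x j :=
  Function.update_of_ne h ..

end Diagram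

section Points

variable {J : Type u} [Finite J] (A : J → Type u) [∀ j, CommRing (A j)] {Ω : Type u} [Field Ω]

/-- A point of a finite product factors through a factor. -/
theorem exists_factor (φ : (∀ j, A j) →+* Ω) :
    ∃ (j : J) (ψ : A j →+* Ω), φ = ψ.comp (Pi.evalRingHom A j) := by
  classical
  haveI := Fintype.ofFinite J
  obtain ⟨j, hj⟩ : ∃ j, φ (Pi.single j 1) ≠ 0 := by
    by_contra hne
    push Not at hne
    have : φ 1 = 0 := by
      rw [show (1 : ∀ j, A j) = ∑ j, Pi.single j 1 from (Finset.univ_sum_single 1).symm, map_sum]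
      exact Finset.sum_eq_zero fun j _ => hne j
    exact one_ne_zero ((map_one φ).symm.trans this)
  have h1 : φ (Pi.single j 1) = 1 := by
    have : φ (Pi.single j 1) * φ (Pi.single j 1) = φ (Pi.single j 1) := by
      rw [← map_mul, ← Pi.single_mul, one_mul]
    exact mul_right_cancel₀ hj (this.trans (one_mul _).symm)
  let ψ : A j →+* Ω :=
    { toFun := fun a => φ (Pi.single j a)
      map_one' := h1
      map_mul' := fun a b => by rw [Pi.single_mul, map_mul]
      map_zero' := by simp
      map_add' := fun a b => by rw [Pi.single_add, map_add] }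
  refine ⟨j, ψ, RingHom.ext fun x => ?_⟩
  have h2 : x * Pi.single j 1 = Pi.single j (x j) := by
    funext l
    by_cases hl : l = j
    · subst hl; simp
    · simp [hl]
  show φ x = φ (Pi.single j (x j))
  rw [← h2, map_mul, h1, mul_one]

theorem factor_unique {j k : J} {ψ : A j →+* Ω} {χ : A k →+* Ω}
    (h : ψ.comp (Pi.evalRingHom A j) = χ.comp (Pi.evalRingHom A k)) : j = k := by
  classical
  by_contra hne
  have := RingHom.congr_fun h (Pi.single j 1)
  simp [Ne.symm hne] at this

theorem factor_inj {j : J} {ψ χ : A j →+* Ω}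
    (h : ψ.comp (Pi.evalRingHom A j) = χ.comp (Pi.evalRingHom A j)) : ψ = χ := by
  classical
  refine RingHom.ext fun a => ?_
  simpa using RingHom.congr_fun h (Pi.single j a)

end Points

section Localization

variable {J : Type u} [Finite J] {A A' : J → Type u} [∀ j, CommRing (A j)] [∀ j, CommRing (A' j)]
  {E : Type u} [Finite E] {s t : E → J} (g : ∀ e, A (t e) →+* A (s e)) (g' : ∀ e, A' (t e) →+* A' (s e))
  (ρ : ∀ j, A j →+* A' j) (hg : ∀ e x, g' e (ρ (t e) x) = ρ (s e) (g e x))

/-- The subring of compatible families. -/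
def eqRing : Subring (∀ j, A j) where
  carrier := {x | ∀ e, g e (x (t e)) = x (s e)}
  one_mem' e := by simp
  mul_mem' hx hy e := by simp [hx e, hy e]
  zero_mem' e := by simp
  add_mem' hx hy e := by simp [hx e, hy e]
  neg_mem' hx e := by simp [hx e]

theorem mem_eqRing {x : ∀ j, A j} : x ∈ eqRing g ↔ ∀ e, g e (x (t e)) = x (s e) := Iff.rfl

include hg in
/-- Localization commutes with compatible families. -/
theorem isLocalization_away_eqRing (r : eqRing g) (f : eqRing g →+* eqRing g')
    (hf : ∀ x j, (f x).1 j = ρ j (x.1 j))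
    (hloc : ∀ j, letI := (ρ j).toAlgebra; IsLocalization.Away (r.1 j) (A' j)) :
    letI := f.toAlgebra; IsLocalization.Away r (eqRing g') := by
  classical
  haveI := Fintype.ofFinite J
  haveI := Fintype.ofFinite E
  letI := f.toAlgebra
  have hu : ∀ j, IsUnit (ρ j (r.1 j)) := fun j =>
    letI := (ρ j).toAlgebra
    haveI := hloc j
    IsLocalization.Away.algebraMap_isUnit (S := A' j) (r.1 j)
  have hr : ∀ e, g e (r.1 (t e)) = r.1 (s e) := r.2
  refine IsLocalization.Away.mk r ?_ (fun z => ?_) (fun a b hab => ?_)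
  · choose v hv using fun j => (hu j).exists_right_inv
    have hmem : v ∈ eqRing g' := fun e => by
      refine (hu (s e)).mul_left_cancel ?_
      rw [hv, ← hr, ← hg, ← map_mul, hv, map_one]
    exact IsUnit.of_mul_eq_one (⟨v, hmem⟩ : eqRing g')
      (Subtype.ext (funext fun j => by
        show (f r).1 j * v j = 1
        rw [hf]; exact hv j))
  · choose n a ha using fun j =>
      letI := (ρ j).toAlgebra
      haveI := hloc j
      IsLocalization.Away.surj (S := A' j) (r.1 j) (z.1 j)
    let N := ∑ j, n j
    have hN : ∀ j, z.1 j * ρ j (r.1 j) ^ N = ρ j (a j * r.1 j ^ (N - n j)) := fun j => by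
      have hle : n j ≤ N := Finset.single_le_sum (f := n) (fun i _ => Nat.zero_le _) (Finset.mem_univ j)
      have ha' : z.1 j * ρ j (r.1 j) ^ n j = ρ j (a j) := ha j
      rw [map_mul, map_pow, ← ha']
      show _ = z.1 j * ρ j (r.1 j) ^ n j * _
      rw [mul_assoc, ← pow_add, Nat.add_sub_cancel' hle]
    let b : ∀ j, A j := fun j => a j * r.1 j ^ (N - n j)
    choose m hm using fun e =>
      letI := (ρ (s e)).toAlgebra
      haveI := hloc (s e)
      IsLocalization.Away.exists_of_eq (S := A' (s e)) (r.1 (s e)) (show ρ (s e) (g e (b (t e))) = ρ (s e) (b (s e)) by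
        rw [← hg, ← hN, ← hN, map_mul, map_pow, hg, hr, z.2 e])
    let M := ∑ e, m e
    have hmem : (fun j => r.1 j ^ M * b j) ∈ eqRing g := fun e => by
      have hle : m e ≤ M := Finset.single_le_sum (f := m) (fun i _ => Nat.zero_le _) (Finset.mem_univ e)
      show g e (r.1 (t e) ^ M * b (t e)) = r.1 (s e) ^ M * b (s e)
      rw [map_mul, map_pow, hr, ← Nat.add_sub_cancel' hle, pow_add, mul_comm (r.1 (s e) ^ m e), mul_assoc,
        mul_assoc, hm e]
    refine ⟨N + M, ⟨_, hmem⟩, Subtype.ext (funext fun j => ?_)⟩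
    show z.1 j * (f r).1 j ^ (N + M) = (f ⟨_, hmem⟩).1 j
    rw [hf, hf, pow_add, ← mul_assoc, hN, mul_comm, ← map_pow, ← map_mul]
  · have h' : ∀ j, ρ j (a.1 j) = ρ j (b.1 j) := fun j => by
      rw [← hf, ← hf]; exact congrFun (congrArg Subtype.val hab) j
    choose n hn using fun j =>
      letI := (ρ j).toAlgebra
      haveI := hloc j
      IsLocalization.Away.exists_of_eq (S := A' j) (r.1 j) (h' j)
    refine ⟨∑ j, n j, Subtype.ext (funext fun j => ?_)⟩
    have hle : n j ≤ ∑ j, n j := Finset.single_le_sum (f := n) (fun i _ => Nat.zero_le _) (Finset.mem_univ j)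
    show r.1 j ^ (∑ j, n j) * a.1 j = r.1 j ^ (∑ j, n j) * b.1 j
    rw [← Nat.add_sub_cancel' hle, pow_add, mul_comm (r.1 j ^ n j), mul_assoc, mul_assoc, hn j]

end Localization

end Groth.L27.FEtGal
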