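import Mathlib.FieldTheory.Galois.Profinite
import Mathlib.FieldTheory.PurelyInseparable.Basic
import Mathlib.FieldTheory.AbsoluteGaloisGroup
import Mathlib.Algebra.CharP.Reduced

/-! # Automorphisms of normal extensions: compactness and purely inseparable rigidity -/

set_option autoImplicit false
set_option linter.style.haveILetI false

universe u

open IntermediateField

namespace Groth.L27.FEtGal

variable (K E : Type u) [Field K] [Field E] [Algebra K E] [Normal K E]

/-- Automorphisms fixing the separable part of a subextension fix it. -/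
theorem apply_eq_self_of_fix (σ : E ≃ₐ[K] E) (x : E)
    (h : ∀ y : E, y ∈ separableClosure K E → y ∈ K⟮x⟯ → σ y = y) : σ x = x := by
  obtain ⟨q, hq⟩ := ExpChar.exists (separableClosure K E)
  haveI : IsPurelyInseparable (separableClosure K E) E := separableClosure.isPurelyInseparable K E
  haveI : ExpChar E q := expChar_of_injective_ringHom (algebraMap (separableClosure K E) E).injective q
  obtain ⟨n, ⟨y, hy⟩⟩ := IsPurelyInseparable.pow_mem (separableClosure K E) q x
  have hy' : (y : E) = x ^ q ^ n := hy
  refine iterateFrobenius_inj E q n ?_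
  simp only [iterateFrobenius_def]
  rw [← map_pow, ← hy']
  exact h _ y.2 (hy' ▸ pow_mem (IntermediateField.mem_adjoin_simple_self K x) _)

/-- The automorphism group of a normal extension is compact. -/
theorem compactSpace_gal : CompactSpace (E ≃ₐ[K] E) := by
  haveI : Algebra.IsAlgebraic K E := Normal.toIsAlgebraic
  haveI : IsGalois K (separableClosure K E) := inferInstance
  let r := AlgEquiv.restrictNormalHom (F := K) (K₁ := E) (separableClosure K E)
  have hc : Continuous r := InfiniteGalois.restrictNormalHom_continuous (separableClosure K E)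
  have hfix : ∀ σ : E ≃ₐ[K] E, ∀ y : separableClosure K E, (r σ y : E) = σ y := fun σ y =>
    AlgEquiv.restrictNormal_commutes σ (separableClosure K E) y
  have hinj : Function.Injective r := fun σ τ h => by
    have h1 : ∀ x, (τ⁻¹ * σ) x = x := fun x => apply_eq_self_of_fix K E _ x fun y hy _ => by
      show τ.symm (σ y) = y
      rw [← hfix σ ⟨y, hy⟩, h, hfix τ ⟨y, hy⟩, AlgEquiv.symm_apply_apply]
    exact (inv_mul_eq_one.mp (AlgEquiv.ext h1)).symm
  have hbij : Function.Bijective r := ⟨hinj, AlgEquiv.restrictNormalHom_surjective E⟩
  let e : (E ≃ₐ[K] E) ≃* _ := MulEquiv.ofBijective r hbij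
  have hinv : Continuous e.symm := by
    apply continuous_of_continuousAt_one e.symm.toMonoidHom
    rw [continuousAt_def, map_one]
    intro N hN
    rw [krullTopology_mem_nhds_one_iff] at hN
    obtain ⟨L, _, hL⟩ := hN
    let M : IntermediateField K (separableClosure K E) := L.comap (separableClosure K E).val
    haveI : FiniteDimensional K M := Module.Finite.of_injective
      (({ toFun := fun m => ⟨m.1.1, m.2⟩, map_add' := fun _ _ => rfl, map_smul' := fun _ _ => rfl } :
        M →ₗ[K] L)) (fun a b h => Subtype.ext (Subtype.ext (congrArg (fun t : L => (t : E)) h)))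
    refine Filter.mem_of_superset (M.fixingSubgroup_isOpen.mem_nhds (one_mem _)) fun g hg => hL ?_
    rw [SetLike.mem_coe, IntermediateField.mem_fixingSubgroup_iff] at hg ⊢
    intro x hx
    refine apply_eq_self_of_fix K E _ x fun y hy hyx => ?_
    have hyL : y ∈ L := (IntermediateField.adjoin_simple_le_iff.mpr hx) hyx
    refine ((hfix (e.symm g) ⟨y, hy⟩).symm.trans ?_)
    rw [show r (e.symm g) = g from e.apply_symm_apply g]
    exact congrArg Subtype.val (hg ⟨y, hy⟩ hyL)
  exact ({ e.toEquiv with continuous_toFun := hc, continuous_invFun := hinv } :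
    (E ≃ₐ[K] E) ≃ₜ _).symm.compactSpace

instance compactSpace_absoluteGaloisGroup (K : Type u) [Field K] :
    CompactSpace (Field.absoluteGaloisGroup K) :=
  compactSpace_gal K (AlgebraicClosure K)

end Groth.L27.FEtGal
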