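import Groth.Agent.L27.FEtGal.Unique
import Groth.Agent.L27.FEtGal.FieldGroup
import Mathlib.CategoryTheory.Galois.IsFundamentalgroup
import Mathlib.CategoryTheory.Galois.Equivalence
import Mathlib.FieldTheory.IntermediateField.Adjoin.Basic
import Mathlib.RingTheory.Etale.Field

/-! # The fundamental group of a field -/

set_option autoImplicit false
set_option linter.style.haveILetI false
set_option backward.isDefEq.respectTransparency.types false

universe u

open CategoryTheory CategoryTheory.Limits AlgebraicGeometry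

noncomputable section

namespace Groth.L27.FEtGal

variable (K : Type u) [Field K]

/-- The standard geometric point of a field. -/
abbrev geo : Spec (CommRingCat.of (AlgebraicClosure K)) ⟶ Spec (CommRingCat.of K) :=
  Spec.map (CommRingCat.ofHom (algebraMap K (AlgebraicClosure K)))

/-- An automorphism as a morphism. -/
abbrev galSpec (σ : AlgebraicClosure K ≃ₐ[K] AlgebraicClosure K) :
    Spec (CommRingCat.of (AlgebraicClosure K)) ⟶ Spec (CommRingCat.of (AlgebraicClosure K)) :=
  Spec.map (CommRingCat.ofHom σ.toAlgHom.toRingHom)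

theorem galSpec_geo (σ : AlgebraicClosure K ≃ₐ[K] AlgebraicClosure K) : galSpec K σ ≫ geo K = geo K := by
  rw [← Spec.map_comp]
  congr 1
  exact CommRingCat.hom_ext (RingHom.ext fun r => σ.commutes r)

theorem galSpec_one : galSpec K 1 = 𝟙 _ := Spec.map_id _

theorem galSpec_mul (σ τ : AlgebraicClosure K ≃ₐ[K] AlgebraicClosure K) :
    galSpec K (σ * τ) = galSpec K σ ≫ galSpec K τ := by
  rw [← Spec.map_comp]; rfl

instance galAction (Y : FEt.Cat (Spec (CommRingCat.of K))) :
    MulAction (Field.absoluteGaloisGroup K) ((fibF (geo K)).obj Y) where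
  smul σ s := (⟨galSpec K σ ≫ s.1, by
    rw [Category.assoc]; exact (congrArg (galSpec K σ ≫ ·) s.2).trans (galSpec_geo K σ)⟩ :
      FEt.fiberObj (geo K) Y)
  one_smul s := Subtype.ext ((congrArg (· ≫ s.1) (galSpec_one K)).trans (Category.id_comp _))
  mul_smul σ τ s := Subtype.ext ((congrArg (· ≫ s.1) (galSpec_mul K σ τ)).trans (Category.assoc _ _ _))

theorem gal_smul_val (Y : FEt.Cat (Spec (CommRingCat.of K))) (σ : Field.absoluteGaloisGroup K)
    (s : (fibF (geo K)).obj Y) :
    (show FEt.fiberObj (geo K) Y from σ • s).1 = galSpec K σ ≫ (show FEt.fiberObj (geo K) Y from s).1 := rfl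

section Affine

variable {K} (Y : FEt.Cat (Spec (CommRingCat.of K)))

theorem isAffine_left : IsAffine Y.left := by
  haveI : IsFinite (hm Y) := Y.prop.1
  exact isAffine_of_isAffineHom (hm Y)

/-- The structure map of the coordinate ring. -/
def gY : CommRingCat.of K ⟶ Γ(Y.left, ⊤) :=
  haveI := isAffine_left Y
  Spec.preimage (Y.left.isoSpec.inv ≫ hm Y)

theorem gY_spec [IsAffine Y.left] : Spec.map (gY Y) = Y.left.isoSpec.inv ≫ hm Y := Spec.map_preimage _

theorem gY_finite_etale : (gY Y).hom.Finite ∧ (gY Y).hom.Etale := by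
  haveI := isAffine_left Y
  constructor
  · rw [← IsFinite.SpecMap_iff, gY_spec, MorphismProperty.cancel_left_of_respectsIso @IsFinite]
    exact Y.prop.1
  · rw [← HasRingHomProperty.Spec_iff (P := @AlgebraicGeometry.Etale), gY_spec,
      MorphismProperty.cancel_left_of_respectsIso @AlgebraicGeometry.Etale]
    exact Y.prop.2

/-- The algebra structure on the coordinate ring. -/
abbrev algY : Algebra K Γ(Y.left, ⊤) := (gY Y).hom.toAlgebra

/-- The algebra map of a point. -/
theorem exists_algPt (s : FEt.fiberObj (geo K) Y) [IsAffine Y.left] :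
    ∃ φ : Γ(Y.left, ⊤) ⟶ CommRingCat.of (AlgebraicClosure K),
      gY Y ≫ φ = CommRingCat.ofHom (algebraMap K (AlgebraicClosure K)) ∧
        s.1 = Spec.map φ ≫ Y.left.isoSpec.inv := by
  refine ⟨Spec.preimage (s.1 ≫ Y.left.isoSpec.hom), Spec.map_injective ?_, ?_⟩
  · rw [Spec.map_comp, Spec.map_preimage, gY_spec, Category.assoc, Iso.hom_inv_id_assoc]
    exact s.2
  · rw [Spec.map_preimage, Category.assoc, Iso.hom_inv_id]
    exact (Category.comp_id _).symm

end Affine

theorem isOpen_stabilizer (Y : FEt.Cat (Spec (CommRingCat.of K))) (s : (fibF (geo K)).obj Y) :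
    IsOpen (MulAction.stabilizer (Field.absoluteGaloisGroup K) s :
      Set (Field.absoluteGaloisGroup K)) := by
  haveI := isAffine_left Y
  letI := algY Y
  haveI : Module.Finite K Γ(Y.left, ⊤) := (gY_finite_etale Y).1
  obtain ⟨φ, hgφ, hφ⟩ := exists_algPt Y s
  let φA : Γ(Y.left, ⊤) →ₐ[K] AlgebraicClosure K :=
    { φ.hom with commutes' := fun r => ConcreteCategory.congr_hom hgφ r }
  obtain ⟨m, w, hw⟩ := Module.Finite.exists_fin (R := K) (M := Γ(Y.left, ⊤))
  let L : IntermediateField K (AlgebraicClosure K) := IntermediateField.adjoin K (Set.range (φA ∘ w))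
  haveI : Algebra.IsAlgebraic K (AlgebraicClosure K) := AlgebraicClosure.isAlgebraic K
  haveI : FiniteDimensional K L :=
    IntermediateField.finiteDimensional_adjoin fun x _ => Algebra.IsIntegral.isIntegral x
  refine Subgroup.isOpen_mono (H₁ := L.fixingSubgroup) (fun σ hσ => ?_) L.fixingSubgroup_isOpen
  rw [IntermediateField.mem_fixingSubgroup_iff] at hσ
  refine Subtype.ext ?_
  show galSpec K σ ≫ s.1 = s.1
  rw [hφ, ← Category.assoc, ← Spec.map_comp]
  congr 2
  refine CommRingCat.hom_ext (RingHom.ext fun a => ?_)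
  show σ (φA a) = φA a
  have ha : a ∈ Submodule.span K (Set.range w) := by rw [hw]; trivial
  refine hσ _ ?_
  induction ha using Submodule.span_induction with
  | mem x hx => obtain ⟨i, rfl⟩ := hx; exact IntermediateField.subset_adjoin K _ ⟨i, rfl⟩
  | zero => rw [map_zero]; exact L.zero_mem
  | add x y _ _ hx hy => rw [map_add]; exact L.add_mem hx hy
  | smul r x _ hx => rw [map_smul]; exact L.smul_mem hx

theorem transitive (Y : FEt.Cat (Spec (CommRingCat.of K)))
    [@PreGaloisCategory.IsConnected (FEt.Cat (Spec (CommRingCat.of K))) _ Y] :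
    MulAction.IsPretransitive (Field.absoluteGaloisGroup K) ((fibF (geo K)).obj Y) := by
  refine ⟨fun s t => ?_⟩
  haveI := isAffine_left Y
  letI := algY Y
  haveI : Module.Finite K Γ(Y.left, ⊤) := (gY_finite_etale Y).1
  haveI : IsArtinianRing Γ(Y.left, ⊤) := IsArtinianRing.of_finite K _
  let s0 : FEt.fiberObj (geo K) Y := s
  let t0 : FEt.fiberObj (geo K) Y := t
  -- all points have the same image
  have himg : s0.1 default = t0.1 default := by
    let C : Y.left.Opens := ⟨{s0.1 default}, by
      have hh : IsOpen (Y.left.isoSpec.hom ⁻¹' {Y.left.isoSpec.hom (s0.1 default)}) :=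
        (isOpen_discrete (α := PrimeSpectrum Γ(Y.left, ⊤)) _).preimage Y.left.isoSpec.hom.continuous
      convert hh
      ext z
      exact ⟨fun h => congrArg _ h, fun h => (Y.left.isoSpec.hom.homeomorph).injective h⟩⟩
    haveI : IsFinite (hm Y) := Y.prop.1
    haveI : AlgebraicGeometry.Etale (hm Y) := Y.prop.2
    haveI : IsOpenImmersion C.ι := inferInstance
    have hC : IsClosed (Set.range C.ι) := by
      rw [Scheme.Opens.range_ι]
      show IsClosed {s0.1 default}
      have h1 : IsClosed (Y.left.isoSpec.hom ⁻¹' {Y.left.isoSpec.hom (s0.1 default)}) :=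
        (isClosed_discrete (α := PrimeSpectrum Γ(Y.left, ⊤)) _).preimage Y.left.isoSpec.hom.continuous
      convert h1
      ext z
      exact ⟨fun h => congrArg _ h, fun h => (Y.left.isoSpec.hom.homeomorph).injective h⟩
    haveI : IsClosedImmersion C.ι := IsClosedImmersion.of_isPreimmersion C.ι hC
    haveI : AlgebraicGeometry.Etale C.ι := inferInstance
    have hW : FEt.prop (C.ι ≫ hm Y) :=
      ⟨MorphismProperty.comp_mem _ _ _ (inferInstance : IsFinite C.ι) inferInstance,
        MorphismProperty.comp_mem _ _ _ (inferInstance : AlgebraicGeometry.Etale C.ι) inferInstance⟩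
    let W : FEt.Cat (Spec (CommRingCat.of K)) := MorphismProperty.Over.mk ⊤ (C.ι ≫ hm Y) hW
    let i : W ⟶ Y := MorphismProperty.Over.homMk C.ι rfl
    haveI : Mono i := by
      constructor
      intro Z a b h
      exact MorphismProperty.Over.Hom.ext ((cancel_mono C.ι).mp (congrArg (fun m => m.left) h))
    have hr : Set.range s0.1 ⊆ Set.range C.ι := by
      rintro _ ⟨z, rfl⟩; rw [Scheme.Opens.range_ι, Subsingleton.elim z default]; rfl
    let l := IsOpenImmersion.lift C.ι s0.1 hr
    have hl : l ≫ C.ι = s0.1 := IsOpenImmersion.lift_fac C.ι s0.1 hr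
    let w : (fibF (geo K)).obj W := (⟨l, by
      show l ≫ C.ι ≫ hm Y = geo K
      rw [← Category.assoc, hl]; exact s0.2⟩ : FEt.fiberObj (geo K) W)
    haveI := preGaloisCategory (Spec (CommRingCat.of K))
    haveI : PreGaloisCategory.FiberFunctor (fibF (geo K)) := fiberFunctor (geo K)
    haveI : IsIso i := PreGaloisCategory.IsConnected.noTrivialComponent W i fun hi =>
      ((PreGaloisCategory.initial_iff_fiber_empty (fibF (geo K)) W).mp ⟨hi⟩).false w
    have hsurj : t0.1 default ∈ Set.range C.ι := by
      refine ⟨(inv i).left (t0.1 default), ?_⟩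
      exact congrArg (fun m : Y ⟶ Y => m.left (t0.1 default)) (IsIso.inv_hom_id i)
    rw [Scheme.Opens.range_ι] at hsurj
    exact (Set.mem_singleton_iff.mp hsurj).symm
  obtain ⟨φ, hgφ, hφ⟩ := exists_algPt Y s0
  obtain ⟨ψ, hgψ, hψ⟩ := exists_algPt Y t0
  let φA : Γ(Y.left, ⊤) →ₐ[K] AlgebraicClosure K :=
    { φ.hom with commutes' := fun r => ConcreteCategory.congr_hom hgφ r }
  let ψA : Γ(Y.left, ⊤) →ₐ[K] AlgebraicClosure K :=
    { ψ.hom with commutes' := fun r => ConcreteCategory.congr_hom hgψ r }
  have hker : ∀ a, φA a = 0 → ψA a = 0 := by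
    have hp : Spec.map φ default = Spec.map ψ default := by
      have h1 := congrArg (fun z => Y.left.isoSpec.hom z) himg
      simp only [hφ, hψ, Scheme.Hom.comp_apply] at h1
      exact (congrArg (fun m => m (Spec.map φ default)) Y.left.isoSpec.inv_hom_id).symm.trans
        (h1.trans (congrArg (fun m => m (Spec.map ψ default)) Y.left.isoSpec.inv_hom_id))
    intro a ha
    have h2 := congrArg PrimeSpectrum.asIdeal hp
    have hm' : a ∈ Ideal.comap φ.hom (default : Spec (CommRingCat.of (AlgebraicClosure K))).asIdeal := by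
      have e : φ.hom a = 0 := ha
      show φ.hom a ∈ (default : Spec (CommRingCat.of (AlgebraicClosure K))).asIdeal
      rw [e]; exact Submodule.zero_mem _
    have hm2 : ψA a ∈ (default : Spec (CommRingCat.of (AlgebraicClosure K))).asIdeal :=
      (SetLike.ext_iff.mp h2 a).mp hm'
    rw [((Ideal.eq_bot_or_top (default : Spec (CommRingCat.of (AlgebraicClosure K))).asIdeal).resolve_right
      (default : Spec (CommRingCat.of (AlgebraicClosure K))).2.ne_top)] at hm2
    exact hm2
  have hkl : RingHom.ker φA ≤ RingHom.ker ψA := fun a ha => hker a ha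
  let ξ0 : φA.range →ₐ[K] AlgebraicClosure K :=
    (Ideal.Quotient.liftₐ (RingHom.ker φA) ψA fun a ha => hkl ha).comp
      (Ideal.quotientKerEquivRange φA).symm.toAlgHom
  haveI : Algebra.IsAlgebraic K (AlgebraicClosure K) := AlgebraicClosure.isAlgebraic K
  let L : IntermediateField K (AlgebraicClosure K) := φA.range.toIntermediateField'
    (Subalgebra.isField_of_algebraic φA.range)
  let j : L →ₐ[K] φA.range :=
    { toFun := fun x => ⟨x.1, x.2⟩
      map_one' := rfl
      map_mul' := fun _ _ => rfl
      map_zero' := rfl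
      map_add' := fun _ _ => rfl
      commutes' := fun _ => rfl }
  let σA : AlgebraicClosure K →ₐ[K] AlgebraicClosure K := (ξ0.comp j).liftNormal (AlgebraicClosure K)
  let σ : AlgebraicClosure K ≃ₐ[K] AlgebraicClosure K :=
    AlgEquiv.ofBijective σA (Algebra.IsAlgebraic.algHom_bijective σA)
  refine ⟨σ, Subtype.ext ?_⟩
  show galSpec K σ ≫ s0.1 = t0.1
  rw [hφ, hψ, ← Category.assoc, ← Spec.map_comp]
  congr 2
  refine CommRingCat.hom_ext (RingHom.ext fun a => ?_)
  show σA (φA a) = ψA a
  have h1 : σA (φA a) = ξ0 ⟨φA a, a, rfl⟩ :=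
    (ξ0.comp j).liftNormal_commutes (AlgebraicClosure K) ⟨φA a, ⟨a, rfl⟩⟩
  rw [h1]
  have h2 : (Ideal.quotientKerEquivRange φA).symm ⟨φA a, a, rfl⟩ = Ideal.Quotient.mk _ a :=
    (AlgEquiv.symm_apply_eq _).mpr (Subtype.ext rfl)
  show Ideal.Quotient.liftₐ (RingHom.ker φA) ψA (fun a ha => hkl ha) ((Ideal.quotientKerEquivRange φA).symm _) = _
  rw [h2]
  rfl

theorem nonTrivial (σ : Field.absoluteGaloisGroup K)
    (h : ∀ (Y : FEt.Cat (Spec (CommRingCat.of K))) (s : (fibF (geo K)).obj Y), σ • s = s) : σ = 1 := by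
  haveI : Algebra.IsAlgebraic K (AlgebraicClosure K) := AlgebraicClosure.isAlgebraic K
  refine AlgEquiv.ext fun x => apply_eq_self_of_fix K (AlgebraicClosure K) σ x fun y hy _ => ?_
  let L : IntermediateField K (AlgebraicClosure K) := IntermediateField.adjoin K {y}
  haveI : FiniteDimensional K L := IntermediateField.adjoin.finiteDimensional (Algebra.IsIntegral.isIntegral y)
  haveI : Algebra.IsSeparable K L :=
    (IntermediateField.isSeparable_adjoin_simple_iff_isSeparable K (AlgebraicClosure K)).mpr (mem_separableClosure_iff.mp hy)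
  haveI : Algebra.FormallyEtale K L := (Algebra.FormallyEtale.iff_isSeparable K L).mpr inferInstance
  haveI : Algebra.Etale K L := ⟨inferInstance, Algebra.FinitePresentation.of_finiteType.mp inferInstance⟩
  have hP : FEt.prop (Spec.map (CommRingCat.ofHom (algebraMap K L))) :=
    ⟨(IsFinite.SpecMap_iff _).mpr (RingHom.finite_algebraMap.mpr inferInstance),
      (HasRingHomProperty.Spec_iff (P := @AlgebraicGeometry.Etale)).mpr
        (RingHom.etale_algebraMap.mpr inferInstance)⟩
  let Y : FEt.Cat (Spec (CommRingCat.of K)) := MorphismProperty.Over.mk ⊤ _ hP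
  let v : CommRingCat.of L ⟶ CommRingCat.of (AlgebraicClosure K) := CommRingCat.ofHom L.val.toRingHom
  let s : (fibF (geo K)).obj Y := (⟨Spec.map v, by
    show Spec.map v ≫ Spec.map (CommRingCat.ofHom (algebraMap K L)) = geo K
    rw [← Spec.map_comp]; rfl⟩ : FEt.fiberObj (geo K) Y)
  have h1 : galSpec K σ ≫ Spec.map v = Spec.map v := congrArg Subtype.val (h Y s)
  rw [← Spec.map_comp] at h1
  exact ConcreteCategory.congr_hom (Spec.map_injective h1) ⟨y, IntermediateField.mem_adjoin_simple_self K y⟩

instance galoisCategoryField : GaloisCategory (FEt.Cat (Spec (CommRingCat.of K))) := galoisCategory (geo K)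

open scoped FintypeCatDiscrete in
instance isFundamentalGroup :
    PreGaloisCategory.IsFundamentalGroup (fibF (geo K)) (Field.absoluteGaloisGroup K) where
  naturality σ Y Y' f s := Subtype.ext (Category.assoc _ _ _)
  transitive_of_isGalois Y _ := transitive K Y
  continuous_smul Y := continuousSMul_iff_stabilizer_isOpen.mpr (isOpen_stabilizer K Y)
  non_trivial' := nonTrivial K

theorem piOne_mulEquiv : Nonempty (Field.absoluteGaloisGroup K ≃* FEt.piOne (Spec (CommRingCat.of K)) (geo K)) := by
  haveI : PreGaloisCategory.FiberFunctor (fibF (geo K)) := fiberFunctor (geo K)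
  let W := (Functor.FullyFaithful.ofFullyFaithful FintypeCat.incl.{u}).whiskeringRight
    (FEt.Cat (Spec (CommRingCat.of K)))
  exact ⟨((PreGaloisCategory.toAutMulEquiv (fibF (geo K)) (Field.absoluteGaloisGroup K)).trans
    (W.autMulEquivOfFullyFaithful (fibF (geo K)))).trans (Iso.conjAut (fibFIso (geo K)))⟩

open scoped FintypeCatDiscrete in
theorem equiv_contAction : Nonempty (FEt.Cat (Spec (CommRingCat.of K)) ≌
    ContAction FintypeCat.{u} (Field.absoluteGaloisGroup K)) := by
  haveI : PreGaloisCategory.FiberFunctor (fibF (geo K)) := fiberFunctor (geo K)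
  let e : Field.absoluteGaloisGroup K ≃ₜ* Aut (fibF (geo K)) :=
    { PreGaloisCategory.toAutMulEquiv (fibF (geo K)) (Field.absoluteGaloisGroup K) with
      continuous_toFun := (PreGaloisCategory.toAutHomeo (fibF (geo K)) (Field.absoluteGaloisGroup K)).continuous
      continuous_invFun :=
        (PreGaloisCategory.toAutHomeo (fibF (geo K)) (Field.absoluteGaloisGroup K)).symm.continuous }
  exact ⟨(PreGaloisCategory.functorToContAction (fibF (geo K))).asEquivalence.trans
    (ContAction.resEquiv FintypeCat.{u} e)⟩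

end Groth.L27.FEtGal
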