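import Groth.Agent.L27.FEtGal.ColimFib
import Groth.Agent.L27.ExtZero.Supp
import Mathlib.AlgebraicGeometry.Morphisms.FlatMono
import Mathlib.AlgebraicGeometry.Morphisms.FormallyUnramified
import Mathlib.AlgebraicGeometry.Morphisms.UniversallyOpen
import Mathlib.FieldTheory.IsAlgClosed.AlgebraicClosure
import Mathlib.CategoryTheory.Galois.Basic
import Mathlib.CategoryTheory.Limits.Types.Coproducts

/-!
# The Galois category of finite étale covers
-/

set_option autoImplicit false
set_option linter.style.haveILetI false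
set_option linter.unusedSectionVars false
set_option backward.isDefEq.respectTransparency.types false

universe u

open CategoryTheory CategoryTheory.Limits AlgebraicGeometry TopologicalSpace Opposite

noncomputable section

namespace Groth.L27.FEtGal

variable {X : Scheme.{u}}

instance : MorphismProperty.HasOfPostcompProperty FEt.prop.{u} FEt.prop.{u} where
  of_postcomp f g hg hfg := by
    haveI : IsFinite g := hg.1
    haveI : AlgebraicGeometry.Etale g := hg.2
    haveI : IsFinite (f ≫ g) := hfg.1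
    haveI : AlgebraicGeometry.Etale (f ≫ g) := hfg.2
    exact ⟨IsFinite.of_comp f g, AlgebraicGeometry.Etale.of_comp f g⟩

theorem hasFiniteLimits : HasFiniteLimits (FEt.Cat X) := inferInstance

theorem preservesFiniteLimits_restrict {Y : Scheme.{u}} (f : X ⟶ Y) :
    PreservesFiniteLimits (FEt.restrict f) :=
  inferInstanceAs (PreservesFiniteLimits (MorphismProperty.Over.pullback FEt.prop.{u} ⊤ f))

section Fibre

variable {Ω : Type u} [Field Ω] (ξ : Spec (CommRingCat.of Ω) ⟶ X)

/-- Points are morphisms over the base. -/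
def fiberIsoHom : FEt.fiber ξ ≅
    MorphismProperty.Over.forget FEt.prop.{u} ⊤ X ⋙ coyoneda.obj (op (Over.mk ξ)) :=
  NatIso.ofComponents (fun Y =>
    { hom := TypeCat.ofHom fun s => Over.homMk s.1 s.2
      inv := TypeCat.ofHom fun m => ⟨m.left, Over.w m⟩
      hom_inv_id := rfl
      inv_hom_id := rfl }) (fun φ => rfl)

theorem preservesFiniteLimits_fiber : PreservesFiniteLimits (FEt.fiber ξ) := by
  haveI : PreservesFiniteLimits
      (MorphismProperty.Over.forget FEt.prop.{u} ⊤ X ⋙ coyoneda.obj (op (Over.mk ξ))) :=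
    comp_preservesFiniteLimits _ _
  exact preservesFiniteLimits_of_natIso (fiberIsoHom ξ).symm

/-- Points of a base change. -/
def fiberRestrictIso {Y : Scheme.{u}} (f : X ⟶ Y) : FEt.restrict f ⋙ FEt.fiber ξ ≅ FEt.fiber (ξ ≫ f) :=
  NatIso.ofComponents (fun V =>
    { hom := TypeCat.ofHom fun s => ⟨s.1 ≫ pullback.fst V.hom f, by
        refine (Category.assoc _ _ _).trans ((congrArg (s.1 ≫ ·) pullback.condition).trans ?_)
        exact (Category.assoc _ _ _).symm.trans (congrArg (· ≫ f) s.2)⟩
      inv := TypeCat.ofHom fun s => ⟨pullback.lift s.1 ξ s.2, pullback.lift_snd _ _ _⟩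
      hom_inv_id := ConcreteCategory.hom_ext _ _ fun s => Subtype.ext (pullback.hom_ext
        (pullback.lift_fst _ _ _) ((pullback.lift_snd _ _ _).trans s.2.symm))
      inv_hom_id := ConcreteCategory.hom_ext _ _ fun s => Subtype.ext (pullback.lift_fst _ _ _) })
    (fun {V V'} φ => ConcreteCategory.hom_ext _ _ fun s => Subtype.ext (by
      show (s.1 ≫ ((FEt.restrict f).map φ).left) ≫ pullback.fst V'.hom f =
        (s.1 ≫ pullback.fst V.hom f) ≫ φ.left
      refine (Category.assoc _ _ _).trans (Eq.trans ?_ (Category.assoc _ _ _).symm)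
      exact congrArg (s.1 ≫ ·) (pullback.lift_fst _ _ _)))

end Fibre

/-- A point of a cover lying over a geometric point lifts to a point of the fibre. -/
theorem exists_fiber_pt {Ω : Type u} [Field Ω] [IsAlgClosed Ω] {T : Scheme.{u}} (p : T ⟶ X) [IsFinite p]
    (ξ : Spec (CommRingCat.of Ω) ⟶ X) (t : T) (ht : p t = ξ default) :
    ∃ s : Spec (CommRingCat.of Ω) ⟶ T, s ≫ p = ξ ∧ s default = t := by
  obtain ⟨z, hz, -⟩ := Scheme.Pullback.exists_preimage_pullback (f := p) (g := ξ) t default ht
  haveI : IsAffine (pullback p ξ) := isAffine_of_isAffineHom (pullback.snd p ξ)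
  let P := pullback p ξ
  let q : Spec Γ(P, ⊤) ⟶ Spec (CommRingCat.of Ω) := P.isoSpec.inv ≫ pullback.snd p ξ
  haveI : IsFinite q := by
    haveI : IsFinite (pullback.snd p ξ) := inferInstance
    exact MorphismProperty.comp_mem _ _ _ (MorphismProperty.of_isPullback (P := @IsFinite)
      (IsPullback.of_horiz_isIso (show CommSq P.isoSpec.inv (P.isoSpec.inv ≫ 𝟙 _) (𝟙 _) (𝟙 _) from ⟨by simp⟩))
      inferInstance) inferInstance
  let g := Spec.preimage q
  have hg : g.hom.Finite := (IsFinite.SpecMap_iff g).mp (by rw [Spec.map_preimage]; infer_instance)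
  letI := g.hom.toAlgebra
  haveI : Module.Finite Ω Γ(P, ⊤) := hg
  obtain ⟨χ, hχ⟩ := Groth.L18.SchFin.exists_algHom_of_prime (Ω := Ω) (T := Γ(P, ⊤)) (P.isoSpec.hom z)
  let c : Γ(P, ⊤) ⟶ CommRingCat.of Ω := CommRingCat.ofHom χ.toRingHom
  have hgc : g ≫ c = 𝟙 _ := CommRingCat.hom_ext (RingHom.ext fun r => χ.commutes r)
  have hs : (Spec.map c ≫ P.isoSpec.inv) ≫ pullback.snd p ξ = 𝟙 _ := by
    rw [Category.assoc]
    show Spec.map c ≫ q = 𝟙 _
    rw [← Spec.map_preimage q, ← Spec.map_comp, hgc, Spec.map_id]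
  refine ⟨Spec.map c ≫ P.isoSpec.inv ≫ pullback.fst p ξ, ?_, ?_⟩
  · rw [Category.assoc, Category.assoc, pullback.condition, ← Category.assoc, ← Category.assoc, hs,
      Category.id_comp]
  · rw [Scheme.Hom.comp_apply, Scheme.Hom.comp_apply, ← hz]
    congr 1
    have hdef : (Spec.map c) default = P.isoSpec.hom z := by
      refine PrimeSpectrum.ext (Eq.trans ?_ hχ)
      show Ideal.comap c.hom (default : Spec (CommRingCat.of Ω)).asIdeal = RingHom.ker χ.toRingHom
      rw [show (default : Spec (CommRingCat.of Ω)).asIdeal = ⊥ from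
        ((Ideal.eq_bot_or_top (default : Spec (CommRingCat.of Ω)).asIdeal).resolve_right
          (default : Spec (CommRingCat.of Ω)).2.ne_top)]
      rfl
    rw [hdef]
    exact congrArg (fun m => m z) P.isoSpec.hom_inv_id

/-- A criterion for isomorphisms of covers through geometric fibres. -/
theorem isIso_of_fiber {Y Z : FEt.Cat X} (φ : Y ⟶ Z)
    (H : ∀ C : Set X, IsClopen C → C.Nonempty → ∃ (Ω : Type u) (_ : Field Ω) (_ : IsAlgClosed Ω)
      (ξ : Spec (CommRingCat.of Ω) ⟶ X), ξ default ∈ C ∧ IsIso ((FEt.fiber ξ).map φ)) : IsIso φ := by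
  let f : Y.left ⟶ Z.left := φ.left
  let pY : Y.left ⟶ X := Y.hom
  let pZ : Z.left ⟶ X := Z.hom
  have hf : f ≫ pZ = pY := MorphismProperty.Over.w φ
  haveI : IsFinite pY := Y.prop.1
  haveI : AlgebraicGeometry.Etale pY := Y.prop.2
  haveI : IsFinite pZ := Z.prop.1
  haveI : AlgebraicGeometry.Etale pZ := Z.prop.2
  haveI : IsFinite (f ≫ pZ) := by rw [hf]; infer_instance
  haveI : AlgebraicGeometry.Etale (f ≫ pZ) := by rw [hf]; infer_instance
  haveI : IsFinite f := IsFinite.of_comp f pZ
  haveI : AlgebraicGeometry.Etale f := AlgebraicGeometry.Etale.of_comp f pZ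
  have himg : ∀ {T : Scheme.{u}} (p : T ⟶ X) [IsFinite p] [AlgebraicGeometry.Etale p] (O : Set T),
      IsClopen O → IsClopen (p '' O) := fun p _ _ O hO =>
    ⟨p.isClosedMap _ hO.1, p.isOpenMap _ hO.2⟩
  haveI hsurj : Surjective f := by
    refine ⟨fun z => ?_⟩
    by_contra hz
    have hO : IsClopen (Set.range f)ᶜ :=
      (show IsClopen (Set.range f) from ⟨f.isClosedMap.isClosed_range, f.isOpenMap.isOpen_range⟩).compl
    obtain ⟨Ω, _, _, ξ, ⟨t, htO, ht⟩, hi⟩ :=
      H _ (himg pZ _ hO) ⟨pZ z, z, fun ⟨y, hy⟩ => hz ⟨y, hy⟩, rfl⟩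
    obtain ⟨s, hs, hst⟩ := exists_fiber_pt pZ ξ t ht
    obtain ⟨y, hy⟩ := (ConcreteCategory.bijective_of_isIso ((FEt.fiber ξ).map φ)).2 ⟨s, hs⟩
    exact htO ⟨y.1 default, (congrArg (fun r : FEt.fiberObj ξ Z => r.1 default) hy).trans hst⟩
  have hd : Set.range (pullback.diagonal f) = Set.univ := by
    by_contra hne
    let d := pullback.diagonal f
    let q : pullback f f ⟶ X := pullback.fst f f ≫ pY
    haveI : IsFinite q := MorphismProperty.comp_mem _ _ _ inferInstance inferInstance
    haveI : AlgebraicGeometry.Etale q := MorphismProperty.comp_mem _ _ _ inferInstance inferInstance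
    have hO : IsClopen (Set.range d)ᶜ :=
      (show IsClopen (Set.range d) from ⟨d.isClosedEmbedding.isClosed_range, d.isOpenEmbedding.isOpen_range⟩).compl
    obtain ⟨w, hw⟩ := Set.nonempty_compl.mpr hne
    obtain ⟨Ω, _, _, ξ, ⟨t, htO, ht⟩, hi⟩ := H _ (himg q _ hO) ⟨q w, w, hw, rfl⟩
    obtain ⟨s, hs, hst⟩ := exists_fiber_pt q ξ t ht
    have h1 : (s ≫ pullback.fst f f) ≫ pY = ξ := by rw [Category.assoc]; exact hs
    have h2 : (s ≫ pullback.snd f f) ≫ pY = ξ := by
      rw [← hf, Category.assoc, ← pullback.condition_assoc, hf]; exact hs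
    have he : s ≫ pullback.fst f f = s ≫ pullback.snd f f :=
      congrArg Subtype.val ((ConcreteCategory.bijective_of_isIso ((FEt.fiber ξ).map φ)).1
        (a₁ := (⟨_, h1⟩ : FEt.fiberObj ξ Y)) (a₂ := (⟨_, h2⟩ : FEt.fiberObj ξ Y))
        (Subtype.ext (show (s ≫ pullback.fst f f) ≫ f = (s ≫ pullback.snd f f) ≫ f by
          rw [Category.assoc, Category.assoc, pullback.condition])))
    have e : (s ≫ pullback.fst f f) ≫ d = s := by
      apply pullback.hom_ext
      · simp [d]
      · simp [d, he]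
    exact htO ⟨(s ≫ pullback.fst f f) default, (congrArg (fun m => m default) e).trans hst⟩
  haveI : Surjective (pullback.diagonal f) := ⟨Set.range_eq_univ.mp hd⟩
  haveI : Epi (pullback.diagonal f).base :=
    (TopCat.epi_iff_surjective _).mpr (pullback.diagonal f).surjective
  haveI : IsIso (pullback.diagonal f) := IsOpenImmersion.isIso (pullback.diagonal f)
  haveI : Epi f.base := (TopCat.epi_iff_surjective _).mpr hsurj.surj
  haveI : Mono f := (pullback.isIso_diagonal_iff f).mp inferInstance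
  haveI : IsOpenImmersion f := IsOpenImmersion.of_flat_of_mono f
  haveI : IsIso f := IsOpenImmersion.isIso f
  haveI : IsIso φ.left := ‹IsIso f›
  haveI : IsIso ((MorphismProperty.Over.forget FEt.prop.{u} ⊤ X ⋙ CategoryTheory.Over.forget X).map φ) :=
    ‹IsIso φ.left›
  exact isIso_of_reflects_iso φ (MorphismProperty.Over.forget FEt.prop.{u} ⊤ X ⋙ CategoryTheory.Over.forget X)

/-- An algebraically closed field valued point at a point. -/
theorem exists_geometric (x : X) : ∃ (Ω : Type u) (_ : Field Ω) (_ : IsAlgClosed Ω)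
    (ξ : Spec (CommRingCat.of Ω) ⟶ X), ξ default = x := by
  refine ⟨AlgebraicClosure (X.residueField x), inferInstance, inferInstance,
    Spec.map (CommRingCat.ofHom (algebraMap (X.residueField x) (AlgebraicClosure (X.residueField x)))) ≫
      X.fromSpecResidueField x, ?_⟩
  rw [Scheme.Hom.comp_apply]
  exact Scheme.fromSpecResidueField_apply x _

/-- A cocone is colimiting if it is so on all geometric fibres. -/
theorem isColimit_of_fibers {J : Type} [SmallCategory J] [FinCategory J] {D : J ⥤ FEt.Cat X} (c : Cocone D)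
    (h : ∀ (Ω : Type u) [Field Ω] [IsAlgClosed Ω] (ξ : Spec (CommRingCat.of Ω) ⟶ X),
      Nonempty (IsColimit ((FEt.fiber ξ).mapCocone c))) : Nonempty (IsColimit c) := by
  have hiso : IsIso ((isColimit D).desc c) := by
    refine isIso_of_fiber _ fun C _ hC => ?_
    obtain ⟨x, hx⟩ := hC
    obtain ⟨Ω, _, _, ξ, rfl⟩ := exists_geometric x
    refine ⟨Ω, inferInstance, inferInstance, ξ, hx, ?_⟩
    obtain ⟨h0⟩ := isColimit_fiber D ξ
    obtain ⟨h1⟩ := h Ω ξ
    have e : (FEt.fiber ξ).map ((isColimit D).desc c) = (h0.coconePointUniqueUpToIso h1).hom := by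
      refine h0.hom_ext fun j => ?_
      rw [IsColimit.comp_coconePointUniqueUpToIso_hom, Functor.mapCocone_ι_app, ← Functor.map_comp,
        (isColimit D).fac]
      rfl
    rw [e]; infer_instance
  exact ⟨@IsColimit.ofPointIso _ _ _ _ _ _ _ (isColimit D) hiso⟩

theorem preservesFiniteColimits_restrict {Y : Scheme.{u}} (f : X ⟶ Y) :
    PreservesFiniteColimits (FEt.restrict f) :=
  ⟨fun _ _ _ => ⟨fun {D} => preservesColimit_of_preserves_colimit_cocone (isColimit D)
    (isColimit_of_fibers _ fun Ω _ _ ξ => by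
      haveI := preservesFiniteColimits_fiber (ξ ≫ f)
      haveI : PreservesFiniteColimits (FEt.restrict f ⋙ FEt.fiber ξ) :=
        ⟨fun K _ _ => preservesColimitsOfShape_of_natIso (fiberRestrictIso ξ f).symm⟩
      exact ⟨isColimitOfPreserves (FEt.restrict f ⋙ FEt.fiber ξ) (isColimit D)⟩).some⟩⟩

/-! ## The Galois category -/

theorem exists_direct_summand {Y Z : FEt.Cat X} (i : Y ⟶ Z) [Mono i] :
    ∃ (W : FEt.Cat X) (u : W ⟶ Z), Nonempty (IsColimit (BinaryCofan.mk i u)) := by
  let pY : Y.left ⟶ X := Y.hom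
  let pZ : Z.left ⟶ X := Z.hom
  haveI : IsFinite pY := Y.prop.1
  haveI : AlgebraicGeometry.Etale pY := Y.prop.2
  haveI : IsFinite pZ := Z.prop.1
  haveI : AlgebraicGeometry.Etale pZ := Z.prop.2
  let f : Y.left ⟶ Z.left := i.left
  have hf : f ≫ pZ = pY := MorphismProperty.Over.w i
  haveI : IsFinite (f ≫ pZ) := by rw [hf]; infer_instance
  haveI : AlgebraicGeometry.Etale (f ≫ pZ) := by rw [hf]; infer_instance
  haveI : IsFinite f := IsFinite.of_comp f pZ
  haveI : AlgebraicGeometry.Etale f := AlgebraicGeometry.Etale.of_comp f pZ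
  haveI : Mono ((MorphismProperty.Over.forget FEt.prop.{u} ⊤ X).map i) := inferInstance
  haveI : Mono f := Over.mono_left_of_mono ((MorphismProperty.Over.forget FEt.prop.{u} ⊤ X).map i)
  haveI : IsOpenImmersion f := IsOpenImmersion.of_flat_of_mono f
  let C : Z.left.Opens := ⟨(Set.range f)ᶜ, f.isClosedMap.isClosed_range.isOpen_compl⟩
  have hC : IsClosed (Set.range C.ι) := by
    rw [Scheme.Opens.range_ι]
    exact f.isOpenMap.isOpen_range.isClosed_compl
  haveI : IsOpenImmersion C.ι := inferInstance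
  haveI : IsClosedImmersion C.ι := IsClosedImmersion.of_isPreimmersion C.ι hC
  haveI : AlgebraicGeometry.Etale C.ι := inferInstance
  have hW : FEt.prop (C.ι ≫ pZ) :=
    ⟨MorphismProperty.comp_mem _ _ _ (inferInstance : IsFinite C.ι) inferInstance,
      MorphismProperty.comp_mem _ _ _ (inferInstance : AlgebraicGeometry.Etale C.ι) inferInstance⟩
  refine ⟨MorphismProperty.Over.mk ⊤ (C.ι ≫ pZ) hW, MorphismProperty.Over.homMk C.ι rfl, ?_⟩
  obtain ⟨h⟩ : Nonempty (IsColimit (BinaryCofan.mk i
      (MorphismProperty.Over.homMk C.ι rfl : MorphismProperty.Over.mk ⊤ (C.ι ≫ pZ) hW ⟶ Z))) :=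
    isColimit_of_fibers _ fun Ω _ _ ξ => by
      refine ⟨(isColimitMapCoconeBinaryCofanEquiv _ _ _).symm ?_⟩
      refine ((Types.binaryCofan_isColimit_iff _).mpr ⟨?_, ?_, ?_⟩).some
      · intro a b hab
        exact Subtype.ext ((cancel_mono f).mp (congrArg Subtype.val hab))
      · intro a b hab
        exact Subtype.ext ((cancel_mono C.ι).mp (congrArg Subtype.val hab))
      · refine ⟨Set.disjoint_iff_inter_eq_empty.mpr ?_, codisjoint_iff_le_sup.mpr fun s _ => ?_⟩
        · refine Set.eq_empty_iff_forall_notMem.mpr fun s => ?_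
          rintro ⟨⟨a, rfl⟩, b, hb⟩
          have h1 : (b.1 ≫ C.ι) default = (a.1 ≫ f) default :=
            congrArg (fun m : FEt.fiberObj ξ Z => m.1 default) hb
          rw [Scheme.Hom.comp_apply, Scheme.Hom.comp_apply] at h1
          exact (b.1 default).2 ⟨a.1 default, h1.symm⟩
        · by_cases hs : s.1 default ∈ Set.range f
          · have hr : Set.range s.1 ⊆ Set.range f := by
              rintro _ ⟨z, rfl⟩; rwa [Subsingleton.elim z default]
            refine Or.inl ⟨⟨IsOpenImmersion.lift f s.1 hr, ?_⟩, Subtype.ext (IsOpenImmersion.lift_fac f s.1 hr)⟩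
            show IsOpenImmersion.lift f s.1 hr ≫ pY = ξ
            rw [← hf, IsOpenImmersion.lift_fac_assoc]; exact s.2
          · let s1 : Spec (CommRingCat.of Ω) ⟶ Z.left := s.1
            have hr : Set.range s1 ⊆ Set.range C.ι := by
              rintro _ ⟨z, rfl⟩; rw [Scheme.Opens.range_ι, Subsingleton.elim z default]; exact hs
            let l := IsOpenImmersion.lift C.ι s1 hr
            have hl : l ≫ C.ι = s1 := IsOpenImmersion.lift_fac C.ι s1 hr
            refine Or.inr ⟨⟨l, ?_⟩, Subtype.ext hl⟩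
            show l ≫ C.ι ≫ pZ = ξ
            rw [← Category.assoc, hl]; exact s.2
  exact ⟨h⟩

theorem preGaloisCategory (X : Scheme.{u}) : PreGaloisCategory (FEt.Cat X) :=
  haveI := hasFiniteColimits (X := X)
  { hasFiniteCoproducts := inferInstance
    hasQuotientsByFiniteGroups := fun G _ _ => by
      obtain ⟨G', hg, hf, ⟨e⟩⟩ := Finite.exists_type_univ_nonempty_mulEquiv.{u, 0} G
      exact hasColimitsOfShape_of_equivalence e.toSingleObjEquiv.symm
    monoInducesIsoOnDirectSummand := fun i _ => exists_direct_summand i }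

theorem fiber_finite {Ω : Type u} [Field Ω] (ξ : Spec (CommRingCat.of Ω) ⟶ X) (Y : FEt.Cat X) :
    Finite (FEt.fiberObj ξ Y) := by
  haveI : IsFinite (hm Y) := Y.prop.1
  haveI := Groth.L27.Supp.finite_sections (pullback.snd (hm Y) ξ)
  refine Finite.of_injective (fun s : FEt.fiberObj ξ Y =>
    (⟨pullback.lift s.1 (𝟙 _) (by rw [Category.id_comp]; exact s.2), pullback.lift_snd _ _ _⟩ :
      {t : Spec (CommRingCat.of Ω) ⟶ pullback (hm Y) ξ // t ≫ pullback.snd (hm Y) ξ = 𝟙 _}))
    fun s t e => Subtype.ext ?_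
  have := congrArg (fun r => r.1 ≫ pullback.fst (hm Y) ξ) e
  simp only [pullback.lift_fst] at this
  exact this

/-- The fibre functor with values in finite sets. -/
def fibF {Ω : Type u} [Field Ω] (ξ : Spec (CommRingCat.of Ω) ⟶ X) : FEt.Cat X ⥤ FintypeCat.{u} where
  obj Y := haveI := fiber_finite ξ Y; FintypeCat.of (FEt.fiberObj ξ Y)
  map φ := FintypeCat.homMk ((FEt.fiber ξ).map φ)
  map_id Y := by
    ext s
    exact ConcreteCategory.congr_hom ((FEt.fiber ξ).map_id Y) s
  map_comp φ ψ := by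
    ext s
    exact ConcreteCategory.congr_hom ((FEt.fiber ξ).map_comp φ ψ) s

/-- Its underlying functor is the fibre. -/
def fibFIso {Ω : Type u} [Field Ω] (ξ : Spec (CommRingCat.of Ω) ⟶ X) :
    fibF ξ ⋙ FintypeCat.incl ≅ FEt.fiber ξ :=
  NatIso.ofComponents (fun _ => Iso.refl _) (fun _ => rfl)

variable {Ω : Type u} [Field Ω] [IsAlgClosed Ω] (ξ : Spec (CommRingCat.of Ω) ⟶ X)

theorem preservesFiniteLimits_fibF : PreservesFiniteLimits (fibF ξ) := by
  haveI := preservesFiniteLimits_fiber ξ
  haveI : PreservesFiniteLimits (fibF ξ ⋙ FintypeCat.incl) :=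
    preservesFiniteLimits_of_natIso (fibFIso ξ).symm
  exact ⟨fun K _ _ => preservesLimitsOfShape_of_reflects_of_preserves (fibF ξ) FintypeCat.incl⟩

theorem preservesFiniteColimits_fibF : PreservesFiniteColimits (fibF ξ) := by
  haveI := preservesFiniteColimits_fiber ξ
  haveI : PreservesFiniteColimits (fibF ξ ⋙ FintypeCat.incl) :=
    ⟨fun K _ _ => preservesColimitsOfShape_of_natIso (fibFIso ξ).symm⟩
  exact ⟨fun K _ _ => preservesColimitsOfShape_of_reflects_of_preserves (fibF ξ) FintypeCat.incl⟩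

theorem reflectsIsomorphisms_fibF [ConnectedSpace X] : (fibF ξ).ReflectsIsomorphisms where
  reflects {Y Z} φ hφ := by
    refine isIso_of_fiber φ fun C hC hne => ⟨Ω, inferInstance, inferInstance, ξ, ?_, ?_⟩
    · rcases isClopen_iff.mp hC with rfl | rfl
      · exact absurd hne Set.not_nonempty_empty
      · trivial
    · have h1 : IsIso ((fibF ξ ⋙ FintypeCat.incl).map φ) :=
        inferInstanceAs (IsIso (FintypeCat.incl.map ((fibF ξ).map φ)))
      exact (NatIso.isIso_map_iff (fibFIso ξ) φ).mp h1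

theorem fiberFunctor [ConnectedSpace X] :
    @PreGaloisCategory.FiberFunctor (FEt.Cat X) _ (preGaloisCategory X) (fibF ξ) := by
  haveI := preservesFiniteLimits_fibF ξ
  haveI := preservesFiniteColimits_fibF ξ
  haveI := reflectsIsomorphisms_fibF ξ
  exact @PreGaloisCategory.FiberFunctor.mk _ _ (preGaloisCategory X) _ inferInstance inferInstance
    inferInstance inferInstance (fun G _ _ => by
      obtain ⟨G', hg, hf, ⟨e⟩⟩ := Finite.exists_type_univ_nonempty_mulEquiv.{u, 0} G
      exact preservesColimitsOfShape_of_equiv e.toSingleObjEquiv.symm (fibF ξ)) inferInstance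

end Groth.L27.FEtGal
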