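import Groth.Agent.L27.FEtGal.Galois
import Groth.Agent.L27.GaloisFiber
import Mathlib.CategoryTheory.Galois.Prorepresentability

/-! # Uniqueness of fibre functors on finite étale covers -/

set_option autoImplicit false
set_option linter.style.haveILetI false
set_option backward.isDefEq.respectTransparency.types false

universe u

open CategoryTheory CategoryTheory.Limits AlgebraicGeometry

noncomputable section

namespace Groth.L27.FEtGal

variable {X : Scheme.{u}} [ConnectedSpace X] {Ω Ω' : Type u} [Field Ω] [IsAlgClosed Ω] [Field Ω']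
  [IsAlgClosed Ω'] (ξ : Spec (CommRingCat.of Ω) ⟶ X) (ξ' : Spec (CommRingCat.of Ω') ⟶ X)

include ξ in
theorem galoisCategory : GaloisCategory (FEt.Cat X) :=
  @GaloisCategory.mk _ _ (preGaloisCategory X) ⟨fibF ξ, ⟨fiberFunctor ξ⟩⟩

theorem nonempty_fibF_iso : Nonempty (fibF ξ ≅ fibF ξ') := by
  haveI := galoisCategory ξ
  haveI : PreGaloisCategory.FiberFunctor (fibF ξ') := fiberFunctor ξ'
  haveI := preservesFiniteLimits_fibF ξ
  haveI := preservesFiniteColimits_fibF ξ
  exact Groth.L27.Galois.nonempty_iso_of_exact (fibF ξ') (fibF ξ)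

theorem nonempty_fiber_iso : Nonempty (FEt.fiber ξ ≅ FEt.fiber ξ') :=
  (nonempty_fibF_iso ξ ξ').map fun e =>
    (fibFIso ξ).symm ≪≫ Functor.isoWhiskerRight e FintypeCat.incl ≪≫ fibFIso ξ'

theorem isIso_fiber_hom (φ : FEt.fiber ξ ⟶ FEt.fiber ξ') : IsIso φ := by
  haveI := galoisCategory ξ
  haveI : PreGaloisCategory.FiberFunctor (fibF ξ) := fiberFunctor ξ
  obtain ⟨e⟩ := nonempty_fibF_iso ξ' ξ
  let W := (Functor.FullyFaithful.ofFullyFaithful FintypeCat.incl.{u}).whiskeringRight (FEt.Cat X)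
  let ψ : fibF ξ ⟶ fibF ξ' := W.preimage ((fibFIso ξ).hom ≫ φ ≫ (fibFIso ξ').inv)
  have hψ : IsIso (ψ ≫ e.hom) := PreGaloisCategory.FibreFunctor.end_isIso (fibF ξ) (ψ ≫ e.hom)
  haveI : IsIso ψ := IsIso.of_isIso_comp_right ψ e.hom
  have h : (fibFIso ξ).hom ≫ φ ≫ (fibFIso ξ').inv =
      ((Functor.whiskeringRight (FEt.Cat X) _ _).obj FintypeCat.incl.{u}).map ψ := (W.map_preimage _).symm
  have h2 : φ = (fibFIso ξ).inv ≫
      ((Functor.whiskeringRight (FEt.Cat X) _ _).obj FintypeCat.incl.{u}).map ψ ≫ (fibFIso ξ').hom := by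
    rw [← h]; simp
  rw [h2]
  infer_instance

end Groth.L27.FEtGal
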